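import Cfsg.Agent.SporRec.LyFiveFinal
import Cfsg.Agent.CpAut.LyFiveRow
import Cfsg.Agent.H568.OddPair
import Cfsg.Agent.TypeM.FactsAut
import Cfsg.Agent.CpAutLy.Row
import Cfsg.Agent.Lib.HallHigman
import Cfsg.Agent.Lib.Cores
import Cfsg.Agent.Lib.PGroupCoprimeAction
import Cfsg.Agent.Lib.CoprimeStab
import Mathlib
import Cfsg.Agent.McLType.ThreeElts
import Cfsg.Agent.FastGrp
import Cfsg.Agent.Prune
set_option linter.all false

section
prune_inst 0x7ffefefbaff8afffffff7e7ffefddffff9fcffffffdffbfbfffde9ffefdf6b6bffe5fb8f7fec58ff9ef6e2b630f87b53fbffeeffef6bdc7ffffd5ff45ffbff9fedffbfad51f6b83e0ffe6ffffbf17fee7f3fffffffffffffffffffffffffffffffffffffffff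

-- part: H582/Ly/FvFour
section
prune_inst 0x100000000000010000000000000000000000000002001020000400000020800080004000000000000000000011000000000000000000000000001200000000000000100000000000000000000000000000000000000000000000000000000000
set_option linter.all false
open scoped Cfsg.Agent.FastGrp

-- part: H582/Ly/Fv
section
/-!
# The 5-local structure of the Lyons group, for S4094-S4096 (helper582)

* `Fv t f K S` : `f` of order 5 with `C(f) = K S`, `K` extraspecial of order `5 ^ 5`, `S = 2.A_6` containing the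
  involution `t`; conjugates, existence;
* `Fv.comm_of_comm` : if `k s` (`k ∈ K`, `s ∈ S`) commutes with `d ∈ K` then `s` commutes with `d`;
* `Fv.card_le` : **`|C_K(c)| ≤ 25` for a 5-element `c ∈ C(f) ∖ K`**;
* `Fv.not_comm_cent` : `C_K(w)` is not abelian for `w ∈ K`;
* `Fv.eq_one_of_normal` : `O_{5'}(C(f)) = 1`.
-/

set_option autoImplicit false
set_option linter.unusedSectionVars false

namespace Cfsg.Agent.H582.Ly

open Subgroup Cfsg Cfsg.Agent.SporRec.LyFiveExtra Cfsg.Agent.SporRec.LyFiveSix Cfsg.Agent.SporRec.LyFiveCore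
open Cfsg.Agent.SporRec.LyType

/-- The 5-local data. -/
structure Fv {G : Type*} [Group G] (t f : G) (K S : Subgroup G) : Prop where
  h : FiveIn t f K S
  pow_five : ∀ k ∈ K, k ^ 5 = 1
  center : ∀ a ∈ K, (∀ k ∈ K, a * k = k * a) → a ∈ zpowers f
  uinv : ∀ s ∈ S, s * s = 1 → s = 1 ∨ s = t
  five_three : ∀ s ∈ S, ∀ x ∈ S, s ^ 5 = 1 → x ^ 3 = 1 → x ≠ 1 → s * x = x * s → s = 1

variable {G : Type*} [Group G] {t f : G} {K S : Subgroup G}

theorem Fv.map {H : Type*} [Group H] (h : Fv t f K S) (e : G ≃* H) :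
    Fv (e t) (e f) (K.map e.toMonoidHom) (S.map e.toMonoidHom) where
  h := h.h.map e
  pow_five := by
    rintro _ ⟨k, hk, rfl⟩
    rw [← map_pow, h.pow_five k hk, map_one]
  center := by
    rintro _ ⟨a, ha, rfl⟩ hc
    refine (zpowers_map e).2 (h.center a ha fun k hk => ?_)
    apply e.injective
    rw [map_mul, map_mul]
    exact hc _ ⟨k, hk, rfl⟩
  uinv := by
    rintro _ ⟨s, hs, rfl⟩ h2
    have h3 : s * s = 1 := e.injective (by rw [map_mul, map_one]; exact h2)
    rcases h.uinv s hs h3 with h4 | h4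
    · left; rw [h4, map_one]
    · right; rw [h4]; rfl
  five_three := by
    rintro _ ⟨s, hs, rfl⟩ _ ⟨x, hx, rfl⟩ h5 h3 hx1 hc
    have h1 := h.five_three s hs x hx (e.injective (by rw [map_pow, map_one]; exact h5))
      (e.injective (by rw [map_pow, map_one]; exact h3)) (fun h0 => hx1 (by rw [h0, map_one]))
      (e.injective (by rw [map_mul, map_mul]; exact hc))
    rw [h1, map_one]

/-- conjugates of the data -/
theorem Fv.conj (h : Fv t f K S) (g : G) :
    Fv (g * t * g⁻¹) (g * f * g⁻¹) (K.map (MulAut.conj g).toMonoidHom) (S.map (MulAut.conj g).toMonoidHom) :=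
  h.map (MulAut.conj g)

namespace Fv

variable (h : Fv t f K S)

include h

/-- every element of `K` is `m x` with `m` inverted by `t` and `x ∈ ⟨f⟩` -/
theorem exists_inverted {k : G} (hk : k ∈ K) :
    ∃ m ∈ K, ∃ x ∈ zpowers f, t * m * t⁻¹ = m⁻¹ ∧ k = m * x := by
  have h1 := h.h.inv k hk
  set c := t * k * t⁻¹ * k with hc
  have hcK : c ∈ K := h.h.F_le h1
  have hx : c ^ 3 ∈ zpowers f := pow_mem h1 3
  have hc6 : c ^ 3 * c ^ 3 = c := by
    rw [← pow_add, show 3 + 3 = 5 + 1 by norm_num, pow_succ, h.pow_five c hcK, one_mul]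
  have e1 : t * k * t⁻¹ = c * k⁻¹ := by rw [hc]; group
  have e2 : t * (c ^ 3) * t⁻¹ = c ^ 3 := by
    rw [h.h.S_comm_F h.h.six.t_mem hx, mul_inv_cancel_right]
  have hkx : k * (c ^ 3)⁻¹ = (c ^ 3)⁻¹ * k := h.h.comm_F hk (inv_mem hx)
  have hkx' : k⁻¹ * (c ^ 3)⁻¹ = (c ^ 3)⁻¹ * k⁻¹ := h.h.comm_F (inv_mem hk) (inv_mem hx)
  refine ⟨k * (c ^ 3)⁻¹, mul_mem hk (inv_mem (h.h.F_le hx)), c ^ 3, hx, ?_, by group⟩
  calc t * (k * (c ^ 3)⁻¹) * t⁻¹ = (t * k * t⁻¹) * (t * (c ^ 3) * t⁻¹)⁻¹ := by group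
    _ = c * (k⁻¹ * (c ^ 3)⁻¹) := by rw [e1, e2]; group
    _ = c * ((c ^ 3)⁻¹ * k⁻¹) := by rw [hkx']
    _ = (c ^ 3 * c ^ 3) * ((c ^ 3)⁻¹ * k⁻¹) := by rw [hc6]
    _ = (k * (c ^ 3)⁻¹)⁻¹ := by group

/-- if `s ∈ S` fixes the coset `d ⟨f⟩` then it commutes with `d` -/
theorem comm_of_mem {s d : G} (hs : s ∈ S) (hd : d ∈ K) (hsd : s * d * s⁻¹ * d⁻¹ ∈ zpowers f) : s * d = d * s := by
  obtain ⟨m, hm, x, hx, hmt, rfl⟩ := h.exists_inverted hd
  have hsx : s * x = x * s := h.h.S_comm_F hs hx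
  -- `s m s⁻¹ = m y`
  have hy : m⁻¹ * (s * m * s⁻¹) ∈ zpowers f := by
    have hxi : x * s⁻¹ = s⁻¹ * x := by
      have : s⁻¹ * (s * x) * s⁻¹ = s⁻¹ * (x * s) * s⁻¹ := by rw [hsx]
      calc x * s⁻¹ = s⁻¹ * (s * x) * s⁻¹ := by group
        _ = s⁻¹ * (x * s) * s⁻¹ := this
        _ = s⁻¹ * x := by group
    have e1 : s * (m * x) * s⁻¹ * (m * x)⁻¹ = s * m * s⁻¹ * m⁻¹ := by
      calc s * (m * x) * s⁻¹ * (m * x)⁻¹ = s * m * (x * s⁻¹) * x⁻¹ * m⁻¹ := by group
        _ = s * m * (s⁻¹ * x) * x⁻¹ * m⁻¹ := by rw [hxi]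
        _ = s * m * s⁻¹ * m⁻¹ := by group
    rw [e1] at hsd
    have e2 : m⁻¹ * (s * m * s⁻¹) = m⁻¹ * (s * m * s⁻¹ * m⁻¹) * m := by group
    have e3 := h.h.comm_F (inv_mem hm) hsd
    rw [e2, e3]
    have e4 : s * m * s⁻¹ * m⁻¹ * m⁻¹ * m = s * m * s⁻¹ * m⁻¹ := by group
    rw [e4]
    exact hsd
  set y := m⁻¹ * (s * m * s⁻¹) with hyd
  have e1 : s * m * s⁻¹ = m * y := by rw [hyd]; group
  have hty : t * y * t⁻¹ = y := by rw [h.h.S_comm_F h.h.six.t_mem hy, mul_inv_cancel_right]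
  have hst : s * t = t * s := h.h.six.comm s hs
  have hst' : t * s⁻¹ = s⁻¹ * t := by
    calc t * s⁻¹ = s⁻¹ * (s * t) * s⁻¹ := by group
      _ = s⁻¹ * (t * s) * s⁻¹ := by rw [hst]
      _ = s⁻¹ * t := by group
  have e2 : t * (s * m * s⁻¹) * t⁻¹ = s * (t * m * t⁻¹) * s⁻¹ := by
    calc t * (s * m * s⁻¹) * t⁻¹ = (t * s) * m * (t * s)⁻¹ := by group
      _ = (s * t) * m * (s * t)⁻¹ := by rw [hst]
      _ = s * (t * m * t⁻¹) * s⁻¹ := by group
  have e3 : t * (m * y) * t⁻¹ = m⁻¹ * y := by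
    calc t * (m * y) * t⁻¹ = (t * m * t⁻¹) * (t * y * t⁻¹) := by group
      _ = m⁻¹ * y := by rw [hmt, hty]
  rw [e1, e3, hmt] at e2
  have e4 : s * m⁻¹ * s⁻¹ = y⁻¹ * m⁻¹ := by
    calc s * m⁻¹ * s⁻¹ = (s * m * s⁻¹)⁻¹ := by group
      _ = y⁻¹ * m⁻¹ := by rw [e1]; group
  rw [e4, h.h.comm_F (inv_mem hm) hy] at e2
  have e5 : y = y⁻¹ := mul_right_cancel e2
  have e6 : y = 1 := by
    have e7 : y * y = 1 := by
      nth_rewrite 1 [e5]
      exact inv_mul_cancel y
    have e8 : y ^ 5 = 1 := h.pow_five y (h.h.F_le hy)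
    calc y = y ^ 5 * (y * y)⁻¹ * (y * y)⁻¹ := by group
      _ = 1 := by rw [e7, e8]; group
  rw [e6, mul_one] at e1
  have e9 : s * m = m * s := by
    calc s * m = s * m * s⁻¹ * s := by group
      _ = m * s := by rw [e1]
  calc s * (m * x) = (s * m) * x := by group
    _ = m * (s * x) := by rw [e9]; group
    _ = m * x * s := by rw [hsx]; group

/-- if `k s` commutes with `d ∈ K` then `s` commutes with `d` -/
theorem comm_of_comm {k s d : G} (hk : k ∈ K) (hs : s ∈ S) (hd : d ∈ K) (hc : k * s * d = d * (k * s)) :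
    s * d = d * s := by
  refine h.comm_of_mem hs hd ?_
  have e1 : s * d * s⁻¹ * d⁻¹ = k⁻¹ * d * k * d⁻¹ := by
    calc s * d * s⁻¹ * d⁻¹ = k⁻¹ * (k * s * d) * s⁻¹ * d⁻¹ := by group
      _ = k⁻¹ * (d * (k * s)) * s⁻¹ * d⁻¹ := by rw [hc]
      _ = k⁻¹ * d * k * d⁻¹ := by group
  rw [e1]
  have := h.h.comm_mem (inv_mem hk) hd
  rwa [inv_inv] at this

theorem card_cent [Finite G] : Nat.card (centralizer ({f} : Set G)) = 2250000 := by
  rw [h.h.card_centralizer]
  norm_num

theorem isPGroup_K : IsPGroup 5 K := IsPGroup.of_card (n := 5) (by rw [h.h.card])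

/-- 5-elements of `S` have order dividing 5 -/
theorem pow_five_S {s : G} (hs : s ∈ S) {n : ℕ} (hn : s ^ 5 ^ n = 1) : s ^ 5 = 1 := by
  have d1 : orderOf s ∣ 5 ^ n := orderOf_dvd_of_pow_eq_one hn
  have d2 : orderOf s ∣ 720 := by
    have hfin : Finite S := Nat.finite_of_card_ne_zero (by rw [h.h.six.card]; norm_num)
    have := orderOf_dvd_natCard (⟨s, hs⟩ : S)
    rwa [h.h.six.card, Subgroup.orderOf_mk] at this
  obtain ⟨m, -, hm⟩ := (Nat.dvd_prime_pow Nat.prime_five).1 d1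
  rw [hm] at d2
  have hm1 : m ≤ 1 := by
    by_contra hcon
    have h2 : 5 ^ 2 ∣ 720 := (pow_dvd_pow 5 (by omega)).trans d2
    revert h2
    decide
  apply orderOf_dvd_iff_pow_eq_one.1
  rw [hm]
  exact (pow_dvd_pow 5 hm1).trans (by norm_num)

/-- a 5-element of `C(f)` is `k s` with `s ^ 5 = 1` -/
theorem exists_fac {c : G} (hcf : c * f = f * c) {n : ℕ} (hn : c ^ 5 ^ n = 1) :
    ∃ k ∈ K, ∃ s ∈ S, c = k * s ∧ s ^ 5 = 1 := by
  obtain ⟨k, hk, s, hs, rfl⟩ := h.h.fac c hcf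
  refine ⟨k, hk, s, hs, rfl, ?_⟩
  obtain ⟨k', hk', he⟩ := h.h.mem_K_pow hk hs (5 ^ n)
  rw [hn] at he
  refine h.pow_five_S hs (n := n) ?_
  have h1 : s ^ 5 ^ n = k'⁻¹ := by
    calc s ^ 5 ^ n = k'⁻¹ * (k' * s ^ 5 ^ n) := by group
      _ = k'⁻¹ := by rw [← he, mul_one]
  exact h.h.eq_one_of_mem (by rw [h1]; exact inv_mem hk') (Subgroup.pow_mem _ hs _)

end Fv

end Cfsg.Agent.H582.Ly
end

-- part: H582/Ly/FvTwo
section
/-!
# The 5-local structure of the Lyons group: fixed points of the elements of order five (helper582)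

* `Fv.inter_le` : `C_K(s) ∩ C_K(s') ≤ ⟨f⟩` for elements `s`, `s'` of order 5 of `S` generating different subgroups;
* `Fv.sylow_card` : `S` has more than 26 Sylow 5-subgroups;
* `Fv.card_le` : `|C_K(c)| ≤ 25` for the 5-elements `c` of `C(f) ∖ K`.
-/

set_option autoImplicit false
set_option linter.unusedSectionVars false

namespace Cfsg.Agent.H582.Ly

open Subgroup Cfsg Cfsg.Agent.SporRec.LyFiveExtra

variable {G : Type*} [Group G] [Finite G] {t f : G} {K S : Subgroup G}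

/-- in a group of order dividing `45` the subgroups of order 5 are equal -/
theorem zpowers_eq_of_card {H : Type*} [Group H] [Finite H] (hH : Nat.card H ∣ 45) {s s' : H} (hs : orderOf s = 5)
    (hs' : orderOf s' = 5) : zpowers s = zpowers s' := by
  have : Fact (Nat.Prime 5) := ⟨Nat.prime_five⟩
  have key : ∀ s : H, orderOf s = 5 → ¬ 5 ∣ (zpowers s).index := by
    intro s hs h
    have h1 := (zpowers s).card_mul_index
    rw [Nat.card_zpowers, hs] at h1
    have h2 : 5 * 5 ∣ 45 := (Nat.mul_dvd_mul_left 5 h).trans (h1 ▸ hH)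
    revert h2
    decide
  have hP : IsPGroup 5 (zpowers s) := IsPGroup.of_card (n := 1) (by rw [Nat.card_zpowers, hs, pow_one])
  have hP' : IsPGroup 5 (zpowers s') := IsPGroup.of_card (n := 1) (by rw [Nat.card_zpowers, hs', pow_one])
  let P : Sylow 5 H := hP.toSylow (key s hs)
  let P' : Sylow 5 H := hP'.toSylow (key s' hs')
  have h1 := card_sylow_modEq_one 5 H
  have h2 := P.card_dvd_index
  have h3 : Nat.card (Sylow 5 H) ∣ 9 := by
    have h4 : 5 * (P : Subgroup H).index ∣ 45 := by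
      have h5 := (P : Subgroup H).card_mul_index
      have h6 : Nat.card (P : Subgroup H) = 5 := by
        show Nat.card (zpowers s) = 5
        rw [Nat.card_zpowers, hs]
      rw [h6] at h5
      rw [h5]
      exact hH
    have h7 : 5 * (P : Subgroup H).index ∣ 5 * 9 := h4
    exact h2.trans ((Nat.mul_dvd_mul_iff_left (by norm_num)).1 h7)
  have h4 : Nat.card (Sylow 5 H) = 1 := by
    have h5 : Nat.card (Sylow 5 H) ≤ 9 := Nat.le_of_dvd (by norm_num) h3
    unfold Nat.ModEq at h1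
    interval_cases hn : Nat.card (Sylow 5 H) <;> revert h1 h3 <;> decide
  have h5 := (Nat.card_eq_one_iff_unique.1 h4).1
  have h6 : P = P' := Subsingleton.elim _ _
  exact congrArg (fun Q : Sylow 5 H => (Q : Subgroup H)) h6

namespace Fv

variable (h : Fv t f K S)

include h

theorem inter_le {s s' k : G} (hs : s ∈ S) (hs' : s' ∈ S) (ho : orderOf s = 5) (ho' : orderOf s' = 5)
    (hne : zpowers s ≠ zpowers s') (hk : k ∈ K) (hks : s * k = k * s) (hks' : s' * k = k * s') : k ∈ zpowers f := by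
  set H : Subgroup G := closure {s, s'} with hH
  have hsH : s ∈ H := subset_closure (by simp)
  have hsH' : s' ∈ H := subset_closure (by simp)
  have hHS : H ≤ S := by
    rw [hH, closure_le]
    rintro x (rfl | rfl)
    · exact hs
    · exact hs'
  have hHk : H ≤ centralizer ({k} : Set G) := by
    rw [hH, closure_le]
    rintro x (rfl | rfl)
    · exact mem_centralizer_singleton_iff.2 hks
    · exact mem_centralizer_singleton_iff.2 hks'
  by_cases htH : t ∈ H
  · exact h.h.ct k hk (mem_centralizer_singleton_iff.1 (hHk htH)).symm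
  exfalso
  have hodd : ¬ 2 ∣ Nat.card H := by
    intro h2
    have : Fact (Nat.Prime 2) := ⟨Nat.prime_two⟩
    obtain ⟨u, hu⟩ := exists_prime_orderOf_dvd_card' 2 h2
    have hu2 : (u : G) * u = 1 := by
      have := pow_orderOf_eq_one u
      rw [hu, pow_two] at this
      exact congrArg Subtype.val this
    rcases h.uinv u (hHS u.2) hu2 with h3 | h3
    · have h4 : u = 1 := Subtype.ext h3
      rw [h4, orderOf_one] at hu
      norm_num at hu
    · exact htH (h3 ▸ u.2)
  have hcard : Nat.card H ∣ 45 := by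
    have h1 : Nat.card H ∣ 720 := by
      rw [← h.h.six.card]
      exact Subgroup.card_dvd_of_le hHS
    have h2 : Nat.card H ∣ 2 ^ 4 * 45 := h1
    exact (Nat.Coprime.pow_right 4 ((Nat.Prime.coprime_iff_not_dvd Nat.prime_two).2 hodd).symm).dvd_of_dvd_mul_left h2
  have h1 := zpowers_eq_of_card hcard (s := ⟨s, hsH⟩) (s' := ⟨s', hsH'⟩) (by rw [Subgroup.orderOf_mk]; exact ho)
    (by rw [Subgroup.orderOf_mk]; exact ho')
  apply hne
  have h2 := congrArg (fun A : Subgroup H => A.map H.subtype) h1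
  simp only [MonoidHom.map_zpowers] at h2
  exact h2

/-- `S` has more than 26 Sylow 5-subgroups -/
theorem sylow_card : 26 < Nat.card (Sylow 5 S) := by
  have h5 : Fact (Nat.Prime 5) := ⟨Nat.prime_five⟩
  have hc := h.h.six.card
  obtain ⟨s, hs⟩ := exists_prime_orderOf_dvd_card' (G := S) 5 (by rw [hc]; norm_num)
  have hidx : ¬ 5 ∣ (zpowers s).index := by
    intro h1
    have h2 := (zpowers s).card_mul_index
    rw [Nat.card_zpowers, hs, hc] at h2
    obtain ⟨m, hm⟩ := h1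
    omega
  have hP : IsPGroup 5 (zpowers s) := IsPGroup.of_card (n := 1) (by rw [Nat.card_zpowers, hs, pow_one])
  let P : Sylow 5 S := hP.toSylow hidx
  have h1 := card_sylow_modEq_one 5 S
  have h2 : Nat.card (Sylow 5 S) = (normalizer (zpowers s : Set S)).index := P.card_eq_index_normalizer
  have h3 : (zpowers s).index = 144 := by
    have h2 := (zpowers s).card_mul_index
    rw [Nat.card_zpowers, hs, hc] at h2
    omega
  have h4 : Nat.card (Sylow 5 S) ∣ 144 := by
    rw [← h3]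
    exact P.card_dvd_index
  have h6 : ¬ 3 ∣ Nat.card (normalizer (zpowers s : Set S)) := by
    intro h3
    have h7 := H568.OddPair.card_normalizer hs
    have h8 : 3 ∣ Nat.card (centralizer ({s} : Set S)) :=
      (Nat.Coprime.dvd_of_dvd_mul_right (by decide) (h3.trans h7))
    have : Fact (Nat.Prime 3) := ⟨Nat.prime_three⟩
    obtain ⟨x, hx⟩ := exists_prime_orderOf_dvd_card' 3 h8
    have hx' : orderOf (x : S) = 3 := by rw [Subgroup.orderOf_coe]; exact hx
    have hxs : (x : S) * s = s * x := mem_centralizer_singleton_iff.1 x.2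
    have hs1 := h.five_three s s.2 (x : S) (x : S).2 (by
      have := pow_orderOf_eq_one s
      rw [hs] at this
      exact congrArg Subtype.val this) (by
      have := pow_orderOf_eq_one (x : S)
      rw [hx'] at this
      exact congrArg Subtype.val this) (by
      intro h9
      have h10 : (x : S) = 1 := Subtype.ext h9
      rw [h10, orderOf_one] at hx'
      norm_num at hx') (congrArg Subtype.val hxs).symm
    have h11 : s = 1 := Subtype.ext hs1
    rw [h11, orderOf_one] at hs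
    norm_num at hs
  have h7 := (normalizer (zpowers s : Set S)).card_mul_index
  rw [← h2, hc] at h7
  by_contra hcon
  push Not at hcon
  unfold Nat.ModEq at h1
  interval_cases hn : Nat.card (Sylow 5 S) <;> omega

/-- **`|C_K(s)| ≤ 25`** for the elements of order 5 of `S` -/
theorem card_le_S {s : G} (hs : s ∈ S) (ho : orderOf s = 5) : Nat.card (K ⊓ centralizer ({s} : Set G) : Subgroup G) ≤ 25 := by
  have h5 : Fact (Nat.Prime 5) := ⟨Nat.prime_five⟩
  have hc := h.h.six.card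
  set D : Subgroup G := K ⊓ centralizer ({s} : Set G) with hD
  have hFD : zpowers f ≤ D := fun y hy => ⟨h.h.F_le hy, mem_centralizer_singleton_iff.2 (h.h.S_comm_F hs hy).symm⟩
  have hdvd : Nat.card D ∣ 5 ^ 5 := by
    rw [← h.h.card]
    exact Subgroup.card_dvd_of_le inf_le_left
  obtain ⟨n, hn, hDn⟩ := (Nat.dvd_prime_pow Nat.prime_five).1 hdvd
  by_contra hcon
  push Not at hcon
  have hD125 : 125 ≤ Nat.card D := by
    rw [hDn] at hcon ⊢
    have : 3 ≤ n := by
      by_contra h1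
      have h2 : n ≤ 2 := by omega
      have := Nat.pow_le_pow_right (n := 5) (by norm_num) h2
      omega
    calc 125 = 5 ^ 3 := by norm_num
      _ ≤ 5 ^ n := Nat.pow_le_pow_right (by norm_num) this
  -- the Sylow subgroups of `S`
  let s₀ : S := ⟨s, hs⟩
  have ho₀ : orderOf s₀ = 5 := by rw [Subgroup.orderOf_mk]; exact ho
  have hidx : ¬ 5 ∣ (zpowers s₀).index := by
    intro h1
    have h2 := (zpowers s₀).card_mul_index
    rw [Nat.card_zpowers, ho₀, hc] at h2
    obtain ⟨m, hm⟩ := h1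
    omega
  have hP : IsPGroup 5 (zpowers s₀) := IsPGroup.of_card (n := 1) (by rw [Nat.card_zpowers, ho₀, pow_one])
  let P₀ : Sylow 5 S := hP.toSylow hidx
  have hgP : ∀ P : Sylow 5 S, ∃ g : S, g • P₀ = P := fun P => MulAction.exists_smul_eq S P₀ P
  choose g hg using hgP
  have hz : ∀ P : Sylow 5 S, (P : Subgroup S) = zpowers (g P * s₀ * (g P)⁻¹) := by
    intro P
    have h1 : ((g P • P₀ : Sylow 5 S) : Subgroup S) = (zpowers s₀).map (MulAut.conj (g P)).toMonoidHom := rfl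
    rw [← hg P, h1, MonoidHom.map_zpowers, hg P]
    rfl
  let φ : Sylow 5 S × {k : G // k ∈ D ∧ k ∉ zpowers f} → {k : G // k ∈ K ∧ k ∉ zpowers f} := fun x =>
    ⟨g x.1 * x.2.1 * (g x.1 : G)⁻¹, h.h.S_norm (g x.1).2 x.2.2.1.1, fun h1 => x.2.2.2 (by
      have h2 : (x.2 : G) = (g x.1 : G)⁻¹ * (g x.1 * x.2.1 * (g x.1 : G)⁻¹) * g x.1 := by group
      have h3 := h.h.S_comm_F (inv_mem (g x.1).2) h1
      rw [h3] at h2
      rw [h2]
      have h4 : g x.1 * x.2.1 * (g x.1 : G)⁻¹ * (g x.1 : G)⁻¹ * g x.1 = g x.1 * x.2.1 * (g x.1 : G)⁻¹ := by group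
      rw [h4]
      exact h1)⟩
  have hφ : Function.Injective φ := by
    rintro ⟨P, k, hk⟩ ⟨Q, l, hl⟩ hkl
    have e : (g P : G) * k * (g P : G)⁻¹ = g Q * l * (g Q : G)⁻¹ := congrArg Subtype.val hkl
    have hcomm : ∀ (P : Sylow 5 S) (k : G), k ∈ D → (g P * s * (g P : G)⁻¹) * (g P * k * (g P : G)⁻¹) =
        (g P * k * (g P : G)⁻¹) * (g P * s * (g P : G)⁻¹) := by
      intro P k hk
      have h1 : k * s = s * k := mem_centralizer_singleton_iff.1 hk.2
      calc (g P * s * (g P : G)⁻¹) * (g P * k * (g P : G)⁻¹) = g P * (s * k) * (g P : G)⁻¹ := by group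
        _ = g P * (k * s) * (g P : G)⁻¹ := by rw [h1]
        _ = _ := by group
    have hPQ : P = Q := by
      by_contra hne
      have hne' : zpowers ((g P : G) * s * (g P : G)⁻¹) ≠ zpowers ((g Q : G) * s * (g Q : G)⁻¹) := by
        intro he
        apply hne
        apply Sylow.ext
        rw [hz P, hz Q]
        apply Subgroup.map_injective S.subtype_injective
        rw [MonoidHom.map_zpowers, MonoidHom.map_zpowers]
        exact he
      have h1 := h.inter_le (s := (g P : G) * s * (g P : G)⁻¹) (s' := (g Q : G) * s * (g Q : G)⁻¹)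
        (k := (g P : G) * k * (g P : G)⁻¹)
        (mul_mem (mul_mem (g P).2 hs) (inv_mem (g P).2)) (mul_mem (mul_mem (g Q).2 hs) (inv_mem (g Q).2))
        (by rw [← ho]; exact MulEquiv.orderOf_eq (MulAut.conj (g P : G)) s)
        (by rw [← ho]; exact MulEquiv.orderOf_eq (MulAut.conj (g Q : G)) s) hne' (h.h.S_norm (g P).2 hk.1.1)
        (hcomm P k hk.1) (by rw [e]; exact hcomm Q l hl.1)
      have h2 := (φ ⟨P, k, hk⟩).2.2
      exact h2 h1
    subst hPQ
    have h1 : k = l := by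
      have h2 : (g P : G)⁻¹ * (g P * k * (g P : G)⁻¹) * g P = (g P : G)⁻¹ * (g P * l * (g P : G)⁻¹) * g P := by rw [e]
      simpa [mul_assoc] using h2
    subst h1
    rfl
  have h1 := Nat.card_le_card_of_injective φ hφ
  rw [Nat.card_prod] at h1
  have hcnt : ∀ A : Subgroup G, zpowers f ≤ A → Nat.card {k : G // k ∈ A ∧ k ∉ zpowers f} + 5 = Nat.card A := by
    intro A hA
    have h2 : Nat.card (zpowers f) = 5 := h.h.card_F
    have h3 : ((A : Set G) \ (zpowers f : Set G)).ncard + (zpowers f : Set G).ncard = (A : Set G).ncard :=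
      Set.ncard_sdiff_add_ncard_of_subset hA
    have h4 : (zpowers f : Set G).ncard = 5 := h2
    have h5 : (A : Set G).ncard = Nat.card A := rfl
    have h6 : ((A : Set G) \ (zpowers f : Set G)).ncard = Nat.card {k : G // k ∈ A ∧ k ∉ zpowers f} := rfl
    rw [h4, h5, h6] at h3
    exact h3
  have h2 := hcnt D hFD
  have h3 := hcnt K h.h.F_le
  rw [h.h.card] at h3
  have h4 := h.sylow_card
  have h6 : 27 * 120 ≤ Nat.card (Sylow 5 S) * Nat.card {k : G // k ∈ D ∧ k ∉ zpowers f} :=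
    Nat.mul_le_mul h4 (by omega)
  omega

/-- **`|C_K(c)| ≤ 25`** for the 5-elements of `C(f) ∖ K` -/
theorem card_le {c : G} (hcf : c * f = f * c) {n : ℕ} (hn : c ^ 5 ^ n = 1) (hcK : c ∉ K) :
    Nat.card (K ⊓ centralizer ({c} : Set G) : Subgroup G) ≤ 25 := by
  obtain ⟨k, hk, s, hs, rfl, hs5⟩ := h.exists_fac hcf hn
  have : Fact (Nat.Prime 5) := ⟨Nat.prime_five⟩
  have hs1 : s ≠ 1 := by
    rintro rfl
    exact hcK (by rwa [mul_one])
  refine le_trans ?_ (h.card_le_S hs (orderOf_eq_prime hs5 hs1))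
  refine Nat.card_mono (Set.toFinite _) ?_
  rintro d ⟨hd, hd'⟩
  have hd2 : d * (k * s) = k * s * d := mem_centralizer_singleton_iff.1 hd'
  exact ⟨hd, mem_centralizer_singleton_iff.2 (h.comm_of_comm hk hs hd hd2.symm).symm⟩

end Fv

end Cfsg.Agent.H582.Ly
end

-- part: H582/Ly/FvThree
section
/-!
# The 5-local structure of the Lyons group: abelian subgroups, Sylow subgroups (helper582)

* `Fv.card_le_mul` : `|A| ≤ 5 |C_A(b)|` for `A ≤ K`, `b ∈ K`;
* `Fv.exists_not_comm` : `C_K(w)` is not abelian for `w ∈ K`;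
* `Fv.card_abelian` : abelian 5-subgroups of `C(f)` have order at most 125;
* `Fv.exists_sylow` : every 5-subgroup of `G` is contained in a Sylow subgroup `P`, `K' ≤ P ≤ C(f')`.
-/

set_option autoImplicit false
set_option linter.unusedSectionVars false

namespace Cfsg.Agent.H582.Ly

open Subgroup Cfsg Cfsg.Agent.SporRec.LyFiveExtra

variable {G : Type*} [Group G] [Finite G] {t f : G} {K S : Subgroup G}

theorem card_mul_relIndex {A B : Subgroup G} (h : A ≤ B) : Nat.card A * A.relIndex B = Nat.card B := by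
  have := Subgroup.relIndex_mul_relIndex ⊥ A B bot_le h
  rwa [Subgroup.relIndex_bot_left, Subgroup.relIndex_bot_left] at this

theorem card_inf_mul_relIndex (A B : Subgroup G) : Nat.card (A ⊓ B : Subgroup G) * B.relIndex A = Nat.card A := by
  rw [← card_mul_relIndex (inf_le_left : A ⊓ B ≤ A), inf_comm, Subgroup.inf_relIndex_right]

/-- a proper overgroup of a subgroup of order at least `5 ^ 4` in a group of order `5 ^ 5` -/
theorem eq_of_lt {A K : Subgroup G} (hK : Nat.card K = 5 ^ 5) (hA : A ≤ K) (h : 625 < Nat.card A) : A = K := by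
  apply Subgroup.eq_of_le_of_card_ge hA
  obtain ⟨n, hn, hAn⟩ := (Nat.dvd_prime_pow Nat.prime_five).1 (hK ▸ Subgroup.card_dvd_of_le hA)
  have h5 : n = 5 := by
    by_contra hcon
    have h2 : n ≤ 4 := by omega
    have h3 := Nat.pow_le_pow_right (n := 5) (by norm_num) h2
    omega
  rw [hK, hAn, h5]

theorem card_pow_le {A : Subgroup G} (hA : IsPGroup 5 A) {n m : ℕ} (h : n ≤ Nat.card A) (hm : 5 ^ m < n) : 5 ^ (m + 1) ≤ Nat.card A := by
  have : Fact (Nat.Prime 5) := ⟨Nat.prime_five⟩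
  obtain ⟨k, hk⟩ := IsPGroup.iff_card.1 hA
  rw [hk] at h ⊢
  refine Nat.pow_le_pow_right (by norm_num) ?_
  by_contra hcon
  have h2 : k ≤ m := by omega
  have h3 := Nat.pow_le_pow_right (n := 5) (by norm_num) h2
  omega

namespace Fv

variable (h : Fv t f K S)

include h

/-- `|A| ≤ 5 |C_A(b)|` -/
theorem card_le_mul {A : Subgroup G} (hA : A ≤ K) {b : G} (hb : b ∈ K) :
    Nat.card A ≤ 5 * Nat.card (A ⊓ centralizer ({b} : Set G) : Subgroup G) := by
  let φ : A →* zpowers f :=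
    { toFun := fun a => ⟨(a : G) * b * (a : G)⁻¹ * b⁻¹, h.h.comm_mem (hA a.2) hb⟩
      map_one' := by
        apply Subtype.ext
        show (1 : G) * b * (1 : G)⁻¹ * b⁻¹ = 1
        group
      map_mul' := fun x y => by
        apply Subtype.ext
        show (x * y : G) * b * (x * y : G)⁻¹ * b⁻¹ = x * b * (x : G)⁻¹ * b⁻¹ * (y * b * (y : G)⁻¹ * b⁻¹)
        have h1 : b * (x : G)⁻¹ * b⁻¹ * (y * b * (y : G)⁻¹ * b⁻¹) = (y * b * (y : G)⁻¹ * b⁻¹) * (b * (x : G)⁻¹ * b⁻¹) :=
          h.h.comm_F (mul_mem (mul_mem hb (inv_mem (hA x.2))) (inv_mem hb)) (h.h.comm_mem (hA y.2) hb)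
        calc (x * y : G) * b * (x * y : G)⁻¹ * b⁻¹ = x * ((y * b * (y : G)⁻¹ * b⁻¹) * (b * (x : G)⁻¹ * b⁻¹)) := by group
          _ = x * (b * (x : G)⁻¹ * b⁻¹ * (y * b * (y : G)⁻¹ * b⁻¹)) := by rw [h1]
          _ = _ := by group }
  have hker : Nat.card φ.ker = Nat.card (A ⊓ centralizer ({b} : Set G) : Subgroup G) := by
    refine Nat.card_congr
      { toFun := fun a => ⟨(a : A), (a : A).2, ?_⟩
        invFun := fun a => ⟨⟨a, a.2.1⟩, ?_⟩
        left_inv := fun _ => rfl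
        right_inv := fun _ => rfl }
    · have h1 : φ a = 1 := a.2
      have h2 : ((a : A) : G) * b * ((a : A) : G)⁻¹ * b⁻¹ = 1 := congrArg Subtype.val h1
      refine mem_centralizer_singleton_iff.2 ?_
      rw [mul_inv_eq_one, mul_inv_eq_iff_eq_mul] at h2
      exact h2
    · have h1 : (a : G) * b = b * a := mem_centralizer_singleton_iff.1 a.2.2
      refine Subtype.ext ?_
      show (a : G) * b * (a : G)⁻¹ * b⁻¹ = 1
      rw [h1, mul_inv_cancel_right, mul_inv_cancel]
  have h1 := φ.ker.card_mul_index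
  have h2 : φ.ker.index ≤ 5 := by
    rw [Subgroup.index_ker]
    have h3 : Nat.card φ.range ≤ Nat.card (zpowers f) := Subgroup.card_le_card_group _
    rwa [h.h.card_F] at h3
  rw [← h1, hker, mul_comm]
  exact Nat.mul_le_mul_right _ h2

/-- the centralizer of a noncentral element of `K` in `K` is proper -/
theorem card_cent_le {w : G} (hw : w ∈ K) (hwf : w ∉ zpowers f) :
    Nat.card (K ⊓ centralizer ({w} : Set G) : Subgroup G) ≤ 625 := by
  by_contra hcon
  push Not at hcon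
  have h1 := eq_of_lt h.h.card inf_le_left hcon
  apply hwf
  refine h.center w hw fun k hk => ?_
  rw [← h1] at hk
  exact (mem_centralizer_singleton_iff.1 hk.2).symm

/-- **`C_K(w)` is not abelian** -/
theorem exists_not_comm {w : G} (hw : w ∈ K) (hwf : w ∉ zpowers f) :
    ∃ a ∈ K, ∃ b ∈ K, a * w = w * a ∧ b * w = w * b ∧ a * b ≠ b * a := by
  by_contra hcon
  push Not at hcon
  set D : Subgroup G := K ⊓ centralizer ({w} : Set G) with hD
  have hDK : D ≤ K := inf_le_left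
  have h1 : 625 ≤ Nat.card D := by
    have h2 := h.card_le_mul le_rfl hw
    rw [h.h.card, ← hD] at h2
    omega
  obtain ⟨b, hb, hbw⟩ : ∃ b ∈ K, w * b ≠ b * w := by
    by_contra h2
    push Not at h2
    exact hwf (h.center w hw h2)
  have hbD : b ∉ D := fun h2 => hbw (mem_centralizer_singleton_iff.1 h2.2).symm
  have h2 := h.card_le_mul hDK hb
  have h3 : (D ⊓ centralizer ({b} : Set G) : Subgroup G) ≤ zpowers f := by
    rintro d ⟨hd, hdb⟩
    have hdb' : d * b = b * d := mem_centralizer_singleton_iff.1 hdb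
    set E : Subgroup G := K ⊓ centralizer ({d} : Set G) with hE
    have hDE : D ≤ E := fun e he => ⟨he.1, mem_centralizer_singleton_iff.2
      (hcon e he.1 d hd.1 (mem_centralizer_singleton_iff.1 he.2) (mem_centralizer_singleton_iff.1 hd.2))⟩
    have hbE : b ∈ E := ⟨hb, mem_centralizer_singleton_iff.2 hdb'.symm⟩
    have hlt : D < E := lt_of_le_of_ne hDE fun he => hbD (he ▸ hbE)
    have h4 : Nat.card D < Nat.card E := by
      refine lt_of_le_of_ne (Nat.le_of_dvd Nat.card_pos (Subgroup.card_dvd_of_le hDE)) fun he => hlt.ne ?_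
      exact Subgroup.eq_of_le_of_card_ge hDE he.ge
    have h5 : E = K := eq_of_lt h.h.card inf_le_left (by omega)
    refine h.center d hd.1 fun k hk => ?_
    rw [← h5] at hk
    exact (mem_centralizer_singleton_iff.1 hk.2).symm
  have h4 : Nat.card (D ⊓ centralizer ({b} : Set G) : Subgroup G) ≤ Nat.card (zpowers f) :=
    Nat.card_mono (Set.toFinite _) h3
  rw [h.h.card_F] at h4
  omega

/-- abelian subgroups of `K` -/
theorem card_abelian_K {A : Subgroup G} (hA : A ≤ K) (hab : ∀ a ∈ A, ∀ b ∈ A, a * b = b * a) : Nat.card A ≤ 125 := by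
  by_cases hAf : A ≤ zpowers f
  · have h1 : Nat.card A ≤ Nat.card (zpowers f) := Nat.card_mono (Set.toFinite _) hAf
    rw [h.h.card_F] at h1
    omega
  obtain ⟨w, hwA, hwf⟩ := Set.not_subset.1 hAf
  by_contra hcon
  push Not at hcon
  have h1 : 5 ^ (3 + 1) ≤ Nat.card A := card_pow_le (h.isPGroup_K.to_le hA) hcon (by norm_num)
  set D : Subgroup G := K ⊓ centralizer ({w} : Set G) with hD
  have h2 := h.card_cent_le (hA hwA) hwf
  rw [← hD] at h2
  have hAD : A ≤ D := fun a ha => ⟨hA ha, mem_centralizer_singleton_iff.2 (hab a ha w hwA)⟩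
  have h3 : A = D := Subgroup.eq_of_le_of_card_ge hAD (by omega)
  obtain ⟨a, ha, b, hb, haw, hbw, hne⟩ := h.exists_not_comm (hA hwA) hwf
  apply hne
  apply hab
  · rw [h3]; exact ⟨ha, mem_centralizer_singleton_iff.2 haw⟩
  · rw [h3]; exact ⟨hb, mem_centralizer_singleton_iff.2 hbw⟩

/-- `|P : P ∩ K| ≤ 5` for the 5-subgroups `P` of `C(f)` -/
theorem card_le_inf {P : Subgroup G} (hP : IsPGroup 5 P) (hPf : P ≤ centralizer ({f} : Set G)) :
    Nat.card P ≤ 5 * Nat.card (P ⊓ K : Subgroup G) := by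
  have : Fact (Nat.Prime 5) := ⟨Nat.prime_five⟩
  have h1 := card_inf_mul_relIndex P K
  have h2 : K.relIndex P ∣ 720 := by
    rw [← h.h.index_K]
    have hn := h.h.normal_K
    have h3 : K.relIndex P = (K.subgroupOf (centralizer ({f} : Set G))).relIndex (P.subgroupOf (centralizer ({f} : Set G))) := by
      rw [Subgroup.relIndex_subgroupOf hPf]
    rw [h3]
    exact Subgroup.relIndex_dvd_index_of_normal _ _
  obtain ⟨n, hn⟩ := IsPGroup.iff_card.1 hP
  have h3 : K.relIndex P ∣ 5 ^ n := by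
    rw [← hn, ← h1]
    exact dvd_mul_left _ _
  obtain ⟨m, -, hm⟩ := (Nat.dvd_prime_pow Nat.prime_five).1 h3
  rw [hm] at h2
  have hm1 : m ≤ 1 := by
    by_contra hcon
    have h2 : 5 ^ 2 ∣ 720 := (pow_dvd_pow 5 (by omega)).trans h2
    revert h2
    decide
  have h4 : K.relIndex P ≤ 5 := by
    rw [hm]
    exact (Nat.pow_le_pow_right (by norm_num) hm1)
  rw [← h1, mul_comm]
  exact Nat.mul_le_mul_right _ h4

/-- **abelian 5-subgroups of `C(f)` have order at most 125** -/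
theorem card_abelian {A : Subgroup G} (hA : IsPGroup 5 A) (hAf : A ≤ centralizer ({f} : Set G))
    (hab : ∀ a ∈ A, ∀ b ∈ A, a * b = b * a) : Nat.card A ≤ 125 := by
  by_cases hAK : A ≤ K
  · exact h.card_abelian_K hAK hab
  obtain ⟨c, hcA, hcK⟩ := Set.not_subset.1 hAK
  obtain ⟨n, hn⟩ := hA ⟨c, hcA⟩
  have h1 := h.card_le (mem_centralizer_singleton_iff.1 (hAf hcA)) (n := n) (congrArg Subtype.val hn) hcK
  have h2 := h.card_le_inf hA hAf
  have h3 : (A ⊓ K : Subgroup G) ≤ K ⊓ centralizer ({c} : Set G) := fun a ha =>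
    ⟨ha.2, mem_centralizer_singleton_iff.2 (hab a ha.1 c hcA)⟩
  have h4 : Nat.card (A ⊓ K : Subgroup G) ≤ Nat.card (K ⊓ centralizer ({c} : Set G) : Subgroup G) :=
    Nat.card_mono (Set.toFinite _) h3
  omega

/-- a 5-subgroup containing `K` centralizes `f` -/
theorem le_cent_of_le {P : Subgroup G} (hP : Nat.card P = 5 ^ 6) (hKP : K ≤ P) : P ≤ centralizer ({f} : Set G) := by
  have h5 : Fact (Nat.Prime 5) := ⟨Nat.prime_five⟩
  have hPg : IsPGroup 5 P := IsPGroup.of_card hP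
  have hidx : (K.subgroupOf P).index = 5 := by
    have h1 := card_mul_relIndex hKP
    rw [h.h.card, hP] at h1
    have h2 : K.relIndex P = (K.subgroupOf P).index := rfl
    rw [← h2]
    omega
  have hn : (K.subgroupOf P).Normal := by
    apply Subgroup.normal_of_index_eq_minFac_card
    rw [hidx, hP]
    norm_num
  -- `P` normalizes `⟨f⟩`
  have hkey : ∀ g ∈ P, g * f * g⁻¹ ∈ zpowers f := by
    intro g hg
    have hconj : ∀ k ∈ K, g * k * g⁻¹ ∈ K := fun k hk => by
      have := hn.conj_mem ⟨k, hKP hk⟩ hk ⟨g, hg⟩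
      exact this
    have hconj' : ∀ k ∈ K, g⁻¹ * k * g ∈ K := fun k hk => by
      have := hn.conj_mem ⟨k, hKP hk⟩ hk ⟨g⁻¹, inv_mem hg⟩
      have h2 : g⁻¹ * k * g⁻¹⁻¹ ∈ K := this
      rwa [inv_inv] at h2
    refine h.center _ (hconj f h.h.mem) fun k hk => ?_
    have h1 := h.h.cent _ (hconj' k hk)
    calc g * f * g⁻¹ * k = g * (f * (g⁻¹ * k * g)) * g⁻¹ := by group
      _ = g * ((g⁻¹ * k * g) * f) * g⁻¹ := by rw [h1]
      _ = k * (g * f * g⁻¹) := by group
  -- orbit counting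
  have hcz : Nat.card (zpowers f) = 5 := h.h.card_F
  intro g hg
  rw [mem_centralizer_singleton_iff]
  obtain ⟨n, hn'⟩ := hPg ⟨g, hg⟩
  have hgn : g ^ 5 ^ n = 1 := congrArg Subtype.val hn'
  obtain ⟨i, hi⟩ := hkey g hg
  have hi' : g * f * g⁻¹ = f ^ i := hi.symm
  -- `g ^ m f g ^ -m = f ^ (i ^ m)`
  have hpow : ∀ m : ℕ, g ^ m * f * (g ^ m)⁻¹ = f ^ (i ^ m) := by
    intro m
    induction m with
    | zero => simp
    | succ m ih =>
      calc g ^ (m + 1) * f * (g ^ (m + 1))⁻¹ = g * (g ^ m * f * (g ^ m)⁻¹) * g⁻¹ := by rw [pow_succ']; group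
        _ = g * f ^ (i ^ m) * g⁻¹ := by rw [ih]
        _ = (g * f * g⁻¹) ^ (i ^ m) := by rw [conj_zpow]
        _ = f ^ (i ^ (m + 1)) := by rw [hi', ← zpow_mul, pow_succ, mul_comm]
  have h1 := hpow (5 ^ n)
  rw [hgn, one_mul, inv_one, mul_one] at h1
  -- `i ^ (5 ^ n) = 1` modulo 5, hence `i = 1` modulo 5
  have h2 : f ^ (i ^ 5 ^ n - 1) = 1 := by
    rw [zpow_sub, zpow_one, ← h1, mul_inv_cancel]
  have h3 : (5 : ℤ) ∣ i ^ 5 ^ n - 1 := by
    have := orderOf_dvd_iff_zpow_eq_one.2 h2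
    rwa [h.h.f5] at this
  have h4 : ((i : ZMod 5)) = 1 := by
    have h5' : ((i ^ 5 ^ n - 1 : ℤ) : ZMod 5) = 0 := (ZMod.intCast_zmod_eq_zero_iff_dvd _ 5).2 (by exact_mod_cast h3)
    push_cast at h5'
    rw [ZMod.pow_card_pow] at h5'
    exact sub_eq_zero.1 h5'
  have h6 : (5 : ℤ) ∣ i - 1 := by
    have : ((i - 1 : ℤ) : ZMod 5) = 0 := by push_cast; rw [h4, sub_self]
    exact_mod_cast (ZMod.intCast_zmod_eq_zero_iff_dvd _ 5).1 this
  have h7 : f ^ i = f := by
    have h8 : f ^ (i - 1) = 1 := by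
      apply orderOf_dvd_iff_zpow_eq_one.1
      rw [h.h.f5]
      exact_mod_cast h6
    calc f ^ i = f ^ (i - 1) * f := by rw [← zpow_add_one, sub_add_cancel]
      _ = f := by rw [h8, one_mul]
  rw [h7] at hi'
  rw [mul_inv_eq_iff_eq_mul] at hi'
  exact hi'

/-- **every 5-subgroup is contained in a Sylow subgroup of the standard form** -/
theorem exists_sylow (hc : Nat.card G = 51765179004000000) {A : Subgroup G} (hA : IsPGroup 5 A) :
    ∃ (t' f' : G) (K' S' : Subgroup G) (_ : Fv t' f' K' S') (P : Sylow 5 G), A ≤ P ∧ K' ≤ P ∧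
      (P : Subgroup G) ≤ centralizer ({f'} : Set G) ∧ Nat.card P = 5 ^ 6 := by
  have h5 : Fact (Nat.Prime 5) := ⟨Nat.prime_five⟩
  obtain ⟨P, hP⟩ := hA.exists_le_sylow
  obtain ⟨Q, hQ⟩ := h.isPGroup_K.exists_le_sylow
  obtain ⟨g, hg⟩ := MulAction.exists_smul_eq G Q P
  have hcard : Nat.card P = 5 ^ 6 := by
    rw [P.card_eq_multiplicity, hc]
    have h1 : (51765179004000000 : ℕ) = 5 ^ 6 * 3312971456256 := by norm_num
    have h2 : (51765179004000000 : ℕ).factorization 5 = 6 := by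
      rw [h1, Nat.factorization_mul (by norm_num) (by norm_num), Nat.Prime.factorization_pow Nat.prime_five]
      simp [Nat.factorization_eq_zero_of_not_dvd (show ¬ 5 ∣ 3312971456256 by norm_num)]
    rw [h2]
  have hKP : K.map (MulAut.conj g).toMonoidHom ≤ P := by
    have h1 : ((g • Q : Sylow 5 G) : Subgroup G) = (Q : Subgroup G).map (MulAut.conj g).toMonoidHom := rfl
    rw [← hg, h1]
    exact Subgroup.map_mono hQ
  refine ⟨_, _, _, _, h.conj g, P, hP, hKP, ?_, hcard⟩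
  exact (h.conj g).le_cent_of_le hcard hKP

end Fv

end Cfsg.Agent.H582.Ly
end

-- part: H582/Ly/FvFour
section
/-!
# The 5-local structure of the Lyons group: existence, elements of order five, a `3'`-subgroup (helper582)

* `fv_of_type` : an element of order 5 of `C(t)` over a 5-cycle has the data `Fv`;
* `exists_fv` : existence;
* `Fv.eq_bot_of_normal` : `O_{5'}(C(f)) = 1`;
* `solvable_or` : the centralizer of an element of order 5 is solvable or of order 2250000;
* `exists_big` : a subgroup of order `200000`.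
-/

set_option autoImplicit false
set_option linter.unusedSectionVars false

namespace Cfsg.Agent.H582.Ly

open Subgroup Equiv Cfsg Cfsg.Agent.SporRec.LyFiveExtra Cfsg.Agent.SporRec.LyFiveSix Cfsg.Agent.SporRec.LyFiveCore
open Cfsg.Agent.SporRec.LyType Cfsg.Agent.TypeM.Two Cfsg.Agent.SporRec.TwoAn
open Cfsg.Agent.CpAut.Cyc Cfsg.Agent.CpAut.CycFive Cfsg.Agent.CpAut.LyFive

universe u

/-- the two structures are the same -/
def toLy {G : Type*} [Group G] (L : MT 11 G) : LyType G := ⟨L.t, L.K, L.hz, L.one⟩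

section exist

variable {G : Type*} [Group G] [Finite G]

theorem fv_of_five {L : LyType G} {f : G} (hf : Five L f) : Fv L.t f (core f) (Sx hf) := by
  obtain ⟨⟨hE⟩, -⟩ := Cfsg.Agent.SporRec.LyFiveFinal.exists_lyFive hf
  refine ⟨fiveIn hf hE.card, hE.pow_five, hE.center, ?_, ?_⟩
  · intro s hs h2
    have hsix := six hf
    have h3 : s * f = f * s := (fiveIn hf hE.card).Sf s hs
    exact eq_one_or_t hf (hsix.comm s hs) h3 h2
  · rintro _ ⟨s, rfl⟩ _ ⟨x, rfl⟩ h5 h3 h1 hc
    have hinj := emb_injective hf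
    have e5 : s ^ 5 = 1 := hinj (by rw [map_pow, map_one]; exact h5)
    have e3 : x ^ 3 = 1 := hinj (by rw [map_pow, map_one]; exact h3)
    have e1 : x ≠ 1 := fun h0 => h1 (by rw [h0, map_one])
    have ec : s * x = x * s := hinj (by rw [map_mul, map_mul]; exact hc)
    have h6 := Cfsg.Agent.SporRec.LyFiveBuild.five_three
      (L.K.restrict (fun x => L.K.π ⟨f, L.mem_iff.2 hf.comm⟩ x = x)) (card_fixed hf) e5 e3 e1 ec
    rw [h6, map_one]

/-- an element of order 5 over a 5-cycle -/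
theorem fv_of_type (L : MT 11 G) {x : G} (hx : x ^ 5 = 1) (htx : x * L.t = L.t * x)
    (hy : (L.K.π (⟨x, mem_centralizer_singleton_iff.2 htx⟩ : ↥(centralizer ({L.t} : Set G)))).cycleType = {5}) :
    ∃ (K S : Subgroup G), Fv L.t x K S := by
  have hf : Five (toLy L) x := by
    refine ⟨htx, hx, ?_, ?_⟩
    · exact Perm.card_cycleType_eq_one.1 (by
        change ((L.K.π (⟨x, mem_centralizer_singleton_iff.2 htx⟩ : ↥(centralizer ({L.t} : Set G)))).cycleType).card = 1
        rw [hy]; rfl)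
    · change (L.K.π (⟨x, mem_centralizer_singleton_iff.2 htx⟩ : ↥(centralizer ({L.t} : Set G)))).support.card = 5
      rw [← Perm.sum_cycleType, hy]
      rfl
  exact ⟨_, _, fv_of_five hf⟩

theorem exists_fv (L : MT 11 G) : ∃ (f : G) (K S : Subgroup G), Fv L.t f K S := by
  obtain ⟨f, hf⟩ := Cfsg.Agent.SporRec.LyFiveFinal.exists_five (toLy L)
  exact ⟨f, _, _, fv_of_five hf⟩

end exist

namespace Fv

variable {G : Type*} [Group G] [Finite G] {t f : G} {K S : Subgroup G} (h : Fv t f K S)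

include h

/-- the elements of `C(f)` centralizing `K` lie in `K` -/
theorem mem_of_comm {y : G} (hy : y * f = f * y) (hc : ∀ k ∈ K, y * k = k * y) : y ∈ K := by
  obtain ⟨k, hk, s, hs, rfl⟩ := h.h.fac y hy
  have h1 : s = 1 := h.h.faithful hs fun d hd => h.comm_of_comm hk hs hd (hc d hd)
  rw [h1, mul_one]
  exact hk

/-- `O_{5'}(C(f)) = 1` -/
theorem eq_bot_of_normal {N : Subgroup G} (hN : N ≤ centralizer ({f} : Set G)) (h5 : ¬ 5 ∣ Nat.card N)
    (hn : ∀ k ∈ K, ∀ y ∈ N, k * y * k⁻¹ ∈ N) : N = ⊥ := by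
  have hKN : ∀ y ∈ N, y ∈ K → y = 1 := by
    intro y hy hyK
    have h1 : orderOf y ∣ Nat.card N := by
      rw [← Subgroup.orderOf_mk y hy]
      exact orderOf_dvd_natCard _
    have h2 : orderOf y ∣ 5 := orderOf_dvd_of_pow_eq_one (h.pow_five y hyK)
    rcases (Nat.dvd_prime Nat.prime_five).1 h2 with h3 | h3
    · exact orderOf_eq_one_iff.1 h3
    · exact absurd (h3 ▸ h1) h5
  rw [eq_bot_iff]
  intro y hy
  rw [mem_bot]
  refine hKN y hy (h.mem_of_comm (mem_centralizer_singleton_iff.1 (hN hy)) fun k hk => ?_)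
  have h1 : k * y * k⁻¹ * y⁻¹ ∈ N := mul_mem (hn k hk y hy) (inv_mem hy)
  have hyf : y * f = f * y := mem_centralizer_singleton_iff.1 (hN hy)
  have h2 : k * y * k⁻¹ * y⁻¹ ∈ K := by
    have h3 : y * k⁻¹ * y⁻¹ ∈ K := h.h.norm y (by rw [hyf, mul_inv_cancel_right]; exact mem_zpowers f) _ (inv_mem hk)
    have e : k * y * k⁻¹ * y⁻¹ = k * (y * k⁻¹ * y⁻¹) := by group
    rw [e]
    exact mul_mem hk h3
  have h3 := hKN _ h1 h2
  rw [mul_inv_eq_one, mul_inv_eq_iff_eq_mul] at h3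
  exact h3.symm

theorem t_mem_cent : t ∈ centralizer ({f} : Set G) := mem_centralizer_singleton_iff.2 (h.h.Sf t h.h.six.t_mem)

theorem orderOf_t : orderOf t = 2 := orderOf_eq_prime (by rw [pow_two, h.h.six.t_sq]) h.h.six.t_ne

/-- `O_p(C(f)) = 1` for `p ≠ 5` -/
theorem pCore_eq_bot {p : ℕ} (hp : p.Prime) (hp5 : p ≠ 5) : pCore p ↥(centralizer ({f} : Set G)) = ⊥ := by
  have hf : Fact p.Prime := ⟨hp⟩
  have h1 : (pCore p ↥(centralizer ({f} : Set G))).map (centralizer ({f} : Set G)).subtype = ⊥ := by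
    refine h.eq_bot_of_normal (map_subtype_le _) ?_ ?_
    · rw [card_map_of_injective (Subgroup.subtype_injective _)]
      obtain ⟨n, hn⟩ := IsPGroup.iff_card.1 (Lib.Cores.pCore_isPGroup (G := ↥(centralizer ({f} : Set G))) p)
      rw [hn]
      intro h5
      exact hp5 ((Nat.prime_dvd_prime_iff_eq Nat.prime_five hp).1 (Nat.prime_five.dvd_of_dvd_pow h5)).symm
    · rintro k hk _ ⟨y, hy, rfl⟩
      have hkf : k ∈ centralizer ({f} : Set G) := mem_centralizer_singleton_iff.2 (h.h.cent k hk)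
      exact ⟨_, (Lib.Cores.pCore_normal (G := ↥(centralizer ({f} : Set G))) p).conj_mem y hy ⟨k, hkf⟩, rfl⟩
  rwa [Subgroup.map_eq_bot_iff_of_injective _ (Subgroup.subtype_injective _)] at h1

theorem even_cent : Even (Nat.card (centralizer ({f} : Set G))) := by
  rw [h.card_cent]
  decide

end Fv

/-- the centralizer of an element of order 5 -/
theorem solvable_or {G : Type u} [Group G] [Finite G]
    (FT : ∀ (K : Type u) [Group K] [Finite K], Odd (Nat.card K) → Group.IsSolvable K) (L : MT 11 G) {x : G}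
    (hx : orderOf x = 5) : Group.IsSolvable ↥(centralizer ({x} : Set G)) ∨
      ∃ (t : G) (K S : Subgroup G), Fv t x K S := by
  by_cases hev : 2 ∣ Nat.card ↥(centralizer ({x} : Set G))
  swap
  · left
    exact FT _ (by rwa [← Nat.not_even_iff_odd, even_iff_two_dvd])
  have : Fact (Nat.Prime 2) := ⟨Nat.prime_two⟩
  obtain ⟨s, hs⟩ := exists_prime_orderOf_dvd_card' 2 hev
  have hs2 : orderOf (s : G) = 2 := by rw [Subgroup.orderOf_coe]; exact hs
  obtain ⟨hss, hs1⟩ := MT.sq_of_orderOf hs2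
  obtain ⟨L', hL'⟩ := L.exists_rebase hss hs1
  have htx : L'.t * x = x * L'.t := by
    rw [hL']
    exact mem_centralizer_singleton_iff.1 s.2
  set y : ↥(centralizer ({L'.t} : Set G)) := ⟨x, mem_centralizer_singleton_iff.2 htx.symm⟩ with hyd
  have hx5 : x ^ 5 = 1 := by rw [← hx, pow_orderOf_eq_one]
  have hx1 : x ≠ 1 := by
    rintro rfl
    rw [orderOf_one] at hx
    norm_num at hx
  have hy5 : y ^ 5 = 1 := Subtype.ext hx5
  rcases five_cases L'.K hy5 (fun e => hx1 (congrArg Subtype.val e)) with hty | hty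
  · right
    obtain ⟨K, S, h⟩ := fv_of_type L' hx5 htx.symm hty
    exact ⟨_, K, S, h⟩
  · left
    let t' : ↥(centralizer ({x} : Set G)) := ⟨L'.t, mem_centralizer_singleton_iff.2 htx⟩
    have ht' : orderOf t' = 2 := by rw [← Subgroup.orderOf_coe]; exact L'.orderOf_t
    refine CpAut.TwoCov.solvable_of_two FT ht' ?_
    intro g k hk hgt
    have hgt' : (g : G) * L'.t = L'.t * g := congrArg Subtype.val hgt
    have hgx : (g : G) * x = x * g := mem_centralizer_singleton_iff.1 g.2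
    have hk' : (g : G) ^ 2 ^ k = 1 := by
      have h0 := congrArg Subtype.val hk
      exact h0
    rcases two_elements L'.K hty (g := ⟨(g : G), L'.mem_iff.2 hgt'⟩) (Subtype.ext hgx) (k := k)
      (Subtype.ext hk') with h | h
    · left
      have h0 : (g : G) = 1 := congrArg Subtype.val h
      exact Subtype.ext h0
    · right
      have h0 : (g : G) = (L'.K.z : ↥(centralizer ({L'.t} : Set G))) := congrArg Subtype.val h
      exact Subtype.ext (h0.trans L'.hz)

section big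

variable {G : Type*} [Group G] [Finite G]

/-- `f` is conjugate to `f ^ 2` -/
theorem exists_conj_sq (L : MT 11 G) {f : G} (hf : Five (toLy L) f) : ∃ u : G, u * f * u⁻¹ = f ^ 2 := by
  have hcomm : f * L.t = L.t * f := hf.comm
  set y : ↥(centralizer ({L.t} : Set G)) := ⟨f, mem_centralizer_singleton_iff.2 hcomm⟩ with hy
  have hcyc : (L.K.π y).IsCycle := hf.cyc
  have hcard : (L.K.π y).support.card = 5 := hf.card
  have hct : (L.K.π y).cycleType = {5} := by rw [hcyc.cycleType, hcard]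
  have h5 : y ^ 5 = 1 := Subtype.ext hf.pow
  have h2 : (y ^ 2) ^ 5 = 1 := by rw [← pow_mul, mul_comm, pow_mul, h5, one_pow]
  have hσ5 : (L.K.π y) ^ 5 = 1 := by rw [← map_pow, h5, map_one]
  have ho : orderOf (L.K.π y) = 5 := by rw [hcyc.orderOf, hcard]
  have hcyc2 : ((L.K.π y) ^ 2).IsCycle := hcyc.pow_iff.2 (by rw [ho]; decide)
  have hct2 : (L.K.π (y ^ 2)).cycleType = {5} := by
    rw [map_pow, hcyc2.cycleType]
    have h6 : ((L.K.π y) ^ 2).support.card = 5 := by
      rw [← hcyc2.orderOf, Nat.Coprime.orderOf_pow (by rw [ho]; decide), ho]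
    rw [h6]
  obtain ⟨ρ, hρ, hρc⟩ := exists_even_conj (σ := L.K.π y) (τ := L.K.π (y ^ 2)) (by rw [hct, hct2]) (by
    rw [hcard]
    decide)
  obtain ⟨c, hc⟩ := CpAut.Cyc.exists_conj L.K (n := 5) (by decide) h5 h2 hρ hρc
  exact ⟨c, congrArg Subtype.val hc⟩

/-- **a subgroup of order 200000** -/
theorem exists_big (L : MT 11 G) : ∃ Q : Subgroup G, Nat.card Q = 200000 := by
  obtain ⟨f, hf⟩ := Cfsg.Agent.SporRec.LyFiveFinal.exists_five (toLy L)
  have h := fv_of_five hf
  set K := core f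
  obtain ⟨u, hu⟩ := exists_conj_sq L hf
  have hf5 : f ^ 5 = 1 := h.h.f_pow
  have huN : u ∈ normalizer (zpowers f : Set G) := conj_zpowers_mem (by rw [hu]; exact pow_mem (mem_zpowers f) 2) hf5
  set N := normalizer (zpowers f : Set G) with hN
  -- the order of `N`
  have hcard : 64 ∣ Nat.card N := by
    let φ := normalizerMonoidHom (zpowers f)
    have h1 := Subgroup.card_mul_index φ.ker
    rw [Subgroup.index_ker] at h1
    have hker : Nat.card φ.ker = 2250000 := by
      rw [← h.card_cent, show φ.ker = _ from normalizerMonoidHom_ker (zpowers f)]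
      have h2 : ((centralizer ((zpowers f : Subgroup G) : Set G)).subgroupOf N).map N.subtype = centralizer ({f} : Set G) := by
        ext g
        constructor
        · rintro ⟨⟨g, hg⟩, hg', rfl⟩
          have hg'' : g ∈ centralizer ((zpowers f : Subgroup G) : Set G) := hg'
          rw [mem_centralizer_singleton_iff]
          exact ((mem_centralizer_iff.1 hg'') f (mem_zpowers f)).symm
        · intro hg
          rw [mem_centralizer_singleton_iff] at hg
          have hgN : g ∈ N := conj_zpowers_mem (by rw [hg, mul_inv_cancel_right]; exact mem_zpowers f) hf5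
          refine ⟨⟨g, hgN⟩, ?_, rfl⟩
          show g ∈ centralizer ((zpowers f : Subgroup G) : Set G)
          rw [mem_centralizer_iff]
          rintro _ ⟨i, rfl⟩
          exact ((show Commute g f from hg).zpow_right i).symm.eq
      rw [← h2, card_map_of_injective N.subtype_injective]
    have h4 : 4 ∣ Nat.card φ.range := by
      have e1 : orderOf (φ ⟨u, huN⟩) = 4 := by
        have key : ∀ n : ℕ, u ^ n * f * (u ^ n)⁻¹ = f ^ 2 ^ n := by
          intro n
          induction n with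
          | zero => simp
          | succ n ih =>
            calc u ^ (n + 1) * f * (u ^ (n + 1))⁻¹ = u * (u ^ n * f * (u ^ n)⁻¹) * u⁻¹ := by rw [pow_succ']; group
              _ = u * f ^ 2 ^ n * u⁻¹ := by rw [ih]
              _ = (u * f * u⁻¹) ^ 2 ^ n := by rw [conj_pow]
              _ = f ^ 2 ^ (n + 1) := by rw [hu, ← pow_mul, pow_succ, mul_comm]
        have hap : ∀ n : ℕ, ((φ ⟨u, huN⟩) ^ n) ⟨f, mem_zpowers f⟩ = (⟨f ^ 2 ^ n, pow_mem (mem_zpowers f) _⟩ : zpowers f) := by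
          intro n
          rw [← map_pow]
          apply Subtype.ext
          show u ^ n * f * (u ^ n)⁻¹ = f ^ 2 ^ n
          exact key n
        have h16 : (φ ⟨u, huN⟩) ^ 4 = 1 := by
          ext ⟨x, i, rfl⟩
          have h5 := hap 4
          have h6 : (⟨f ^ i, ⟨i, rfl⟩⟩ : zpowers f) = (⟨f, mem_zpowers f⟩ : zpowers f) ^ i := rfl
          show ((((φ ⟨u, huN⟩) ^ 4) ⟨f ^ i, ⟨i, rfl⟩⟩ : zpowers f) : G) = f ^ i
          rw [h6, map_zpow, h5]
          show (f ^ 2 ^ 4) ^ i = f ^ i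
          have h7 : f ^ 2 ^ 4 = f := by
            calc f ^ 2 ^ 4 = (f ^ 5) ^ 3 * f := by rw [← pow_mul, ← pow_succ]; norm_num
              _ = f := by rw [hf5, one_pow, one_mul]
          rw [h7]
        have h2 : (φ ⟨u, huN⟩) ^ 2 ≠ 1 := by
          intro h5
          have h6 := hap 2
          rw [h5] at h6
          have h7 : f = f ^ 2 ^ 2 := congrArg Subtype.val h6
          apply h.h.f_ne
          have h8 : f ^ 3 = 1 := by
            have h9 : f * f ^ 3 = f * 1 := by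
              rw [mul_one]
              calc f * f ^ 3 = f ^ 2 ^ 2 := by rw [← pow_succ']; norm_num
                _ = f := h7.symm
            exact mul_left_cancel h9
          calc f = (f ^ 3) ^ 2 * (f ^ 5)⁻¹ := by group
            _ = 1 := by rw [h8, hf5]; group
        have : Fact (Nat.Prime 2) := ⟨Nat.prime_two⟩
        have h3 := orderOf_eq_prime_pow (p := 2) (n := 1) (x := φ ⟨u, huN⟩) (by simpa using h2) (by simpa using h16)
        simpa using h3
      have hmem : φ ⟨u, huN⟩ ∈ φ.range := ⟨⟨u, huN⟩, rfl⟩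
      rw [← e1, ← Subgroup.orderOf_mk (φ ⟨u, huN⟩) hmem]
      exact orderOf_dvd_natCard _
    rw [← h1, hker]
    obtain ⟨m, hm⟩ := h4
    rw [hm]
    exact ⟨140625 * m, by ring⟩
  have : Fact (Nat.Prime 2) := ⟨Nat.prime_two⟩
  obtain ⟨T, hT⟩ := Sylow.exists_subgroup_card_pow_prime (G := N) 2 (n := 6) hcard
  have hTc : Nat.card (T.map N.subtype) = 64 := by rw [card_map_of_injective N.subtype_injective, hT]; norm_num
  have hTK : T.map N.subtype ≤ normalizer (K : Set G) := by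
    rintro _ ⟨⟨g, hg⟩, -, rfl⟩
    have h1 : ∀ g ∈ N, ∀ k ∈ K, g * k * g⁻¹ ∈ K := fun g hg k hk =>
      h.h.norm g ((mem_normalizer_iff.1 hg f).1 (mem_zpowers f)) k hk
    rw [mem_normalizer_iff]
    intro k
    refine ⟨fun hk => h1 g hg k hk, fun hk => ?_⟩
    have h2 : g⁻¹ * (g * k * g⁻¹) * g⁻¹⁻¹ ∈ K := h1 g⁻¹ (inv_mem hg) _ hk
    have h3 : g⁻¹ * (g * k * g⁻¹) * g⁻¹⁻¹ = k := by group
    rwa [h3] at h2
  have h1 := CpAutLy.Frat.card_sup_mul hTK
  have h2 : Nat.card (K ⊓ T.map N.subtype : Subgroup G) = 1 := by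
    have d1 := Subgroup.card_dvd_of_le (inf_le_left : K ⊓ T.map N.subtype ≤ K)
    have d2 := Subgroup.card_dvd_of_le (inf_le_right : K ⊓ T.map N.subtype ≤ T.map N.subtype)
    rw [h.h.card] at d1
    rw [hTc] at d2
    have d3 := Nat.dvd_gcd d1 d2
    have d4 : Nat.gcd (5 ^ 5) 64 = 1 := by norm_num
    rw [d4] at d3
    exact Nat.dvd_one.1 d3
  rw [h2, mul_one, hTc, h.h.card] at h1
  exact ⟨_, h1⟩

end big

end Cfsg.Agent.H582.Ly
end
end

-- part: H582/Ly/Three
section
prune_inst 0x1004000000000000000000000000000000000000000000010000000800000000000000002002001000808040000040000000004010000000000000400400000001020010740c00100000008001180c00000000000000000000000000000000000000000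
set_option linter.all false
open scoped Cfsg.Agent.FastGrp

-- part: H582/Ly/Solv
section
/-!
# Solvable groups with Sylow subgroups of prime order (helper582)

* `exists_hom` : `Y` solvable, `r ^ 2 ∤ |Y|`: the `r'`-elements of the kernel of a homomorphism into a group
  `(ZMod n)ˣ` of order dividing `r - 1` lie in `O_{r'}(Y)`;
* `comm_of_small` : an element `x` of prime order `r ≥ 7` acting on a 5-group `A` of order at most 125 with a nontrivial
  fixed point centralizes `A`.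
-/

set_option autoImplicit false

namespace Cfsg.Agent.H582.Ly

open Subgroup Cfsg

theorem exists_hom {Y : Type*} [Group Y] [Finite Y] [Group.IsSolvable Y] {r : ℕ} (hr : r.Prime)
    (hr2 : ¬ r ^ 2 ∣ Nat.card Y) :
    ∃ (M : Subgroup Y) (n : ℕ) (ψ : Y →* (ZMod n)ˣ), M.Normal ∧ (Nat.card M).Coprime r ∧
      Nat.card (ZMod n)ˣ ∣ r - 1 ∧ (∀ y, ψ y = 1 → (orderOf y).Coprime r → y ∈ M) ∧
      ∀ N : Subgroup Y, N.Normal → (Nat.card N).Coprime r → N ≤ M := by
  have hf : Fact r.Prime := ⟨hr⟩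
  have hMn : (pPrimeCore r Y).Normal := Lib.HallHigman.pPrimeCore_normal r
  have hMc : (Nat.card (pPrimeCore r Y)).Coprime r := Lib.HallHigman.pPrimeCore_coprime r
  set M := pPrimeCore r Y with hM
  have hs : Group.IsSolvable (Y ⧸ M) := Group.isSolvable_of_surjective (QuotientGroup.mk'_surjective M)
  have h1 : pPrimeCore r (Y ⧸ M) = ⊥ := Lib.HallHigman.pPrimeCore_quotient_eq_bot r M hM
  have h2 := Lib.HallHigman.centralizer_pCore_le_of_solvable (G := Y ⧸ M) r h1
  set O := pCore r (Y ⧸ M) with hO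
  have hOn : O.Normal := Lib.HallHigman.pCore_normal r
  have hOp : IsPGroup r O := Lib.HallHigman.pCore_isPGroup r
  obtain ⟨k, hk⟩ := IsPGroup.iff_card.1 hOp
  have hk1 : k ≤ 1 := by
    by_contra hcon
    apply hr2
    calc r ^ 2 ∣ r ^ k := pow_dvd_pow r (by omega)
      _ = Nat.card O := hk.symm
      _ ∣ Nat.card (Y ⧸ M) := Subgroup.card_subgroup_dvd_card O
      _ ∣ Nat.card Y := Subgroup.card_quotient_dvd_card M
  have hcyc : IsCyclic O := by
    rcases Nat.lt_or_ge k 1 with h0 | h0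
    · have : k = 0 := by omega
      rw [this, pow_zero] at hk
      have := (Nat.card_eq_one_iff_unique.1 hk).1
      infer_instance
    · have : k = 1 := by omega
      rw [this, pow_one] at hk
      exact isCyclic_of_prime_card hk
  refine ⟨M, Nat.card O, ((IsCyclic.mulAutMulEquiv O).toMonoidHom.comp MulAut.conjNormal).comp (QuotientGroup.mk' M),
    hMn, hMc, ?_, ?_, ?_⟩
  · have h3 : Nat.card (ZMod (Nat.card O))ˣ = Nat.totient (Nat.card O) := by
      have : NeZero (Nat.card O) := ⟨Nat.card_pos.ne'⟩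
      rw [Nat.card_eq_fintype_card, ZMod.card_units_eq_totient]
    rw [h3, hk]
    rcases Nat.lt_or_ge k 1 with h0 | h0
    · have : k = 0 := by omega
      rw [this, pow_zero, Nat.totient_one]
      exact one_dvd _
    · have : k = 1 := by omega
      rw [this, pow_one, Nat.totient_prime hr]
  · intro y hy hyc
    have h3 : MulAut.conjNormal (QuotientGroup.mk' M y) = (1 : MulAut O) :=
      (IsCyclic.mulAutMulEquiv O).injective (by rw [map_one]; exact hy)
    have h4 : QuotientGroup.mk' M y ∈ centralizer (O : Set (Y ⧸ M)) := by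
      rw [mem_centralizer_iff]
      intro o ho
      have h5 := congrArg (fun a : MulAut O => ((a ⟨o, ho⟩ : O) : Y ⧸ M)) h3
      simp only [MulAut.conjNormal_apply, MulAut.one_apply] at h5
      rw [mul_inv_eq_iff_eq_mul] at h5
      exact h5.symm
    have h5 := h2 h4
    obtain ⟨m, hm⟩ := hOp ⟨_, h5⟩
    have hm' : (QuotientGroup.mk' M y) ^ r ^ m = 1 := congrArg Subtype.val hm
    have h6 : orderOf (QuotientGroup.mk' M y) ∣ r ^ m := orderOf_dvd_of_pow_eq_one hm'
    have h7 : orderOf (QuotientGroup.mk' M y) ∣ orderOf y := orderOf_map_dvd _ y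
    have h8 : orderOf (QuotientGroup.mk' M y) = 1 :=
      Nat.eq_one_of_dvd_coprimes (hyc.pow_right m) h7 h6
    rw [orderOf_eq_one_iff] at h8
    exact (QuotientGroup.eq_one_iff y).1 h8
  · intro N hN hNc
    exact Lib.HallHigman.le_pPrimeCore hN hNc

variable {G : Type*} [Group G] [Finite G]

/-- fixed points of a subgroup of prime order acting on a finite set of elements -/
theorem card_modEq_of_inv {x : G} {r : ℕ} (hr : r.Prime) (hx : orderOf x = r) (A : Subgroup G)
    (hA : ∀ a ∈ A, x * a * x⁻¹ ∈ A) : Nat.card A ≡ Nat.card (A ⊓ centralizer ({x} : Set G) : Subgroup G) [MOD r] := by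
  have hf : Fact r.Prime := ⟨hr⟩
  have hz : ∀ g ∈ zpowers x, ∀ a ∈ A, g * a * g⁻¹ ∈ A := by
    have hmap : A.map (MulAut.conj x).toMonoidHom = A := by
      apply Subgroup.eq_of_le_of_card_ge
      · rintro _ ⟨a, ha, rfl⟩
        exact hA a ha
      · rw [card_map_of_injective (MulAut.conj x).injective]
    have hN : x ∈ normalizer (A : Set G) := by
      rw [mem_normalizer_iff]
      intro a
      refine ⟨fun ha => hA a ha, fun ha => ?_⟩
      rw [← hmap] at ha
      obtain ⟨b, hb, hb'⟩ := ha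
      have : b = a := (MulAut.conj x).injective hb'
      rwa [← this]
    intro g hg a ha
    have hgN : g ∈ normalizer (A : Set G) := (zpowers_le.2 hN) hg
    exact (mem_normalizer_iff.1 hgN a).1 ha
  let act : MulAction (zpowers x) A :=
    { smul := fun g a => ⟨g * a * (g : G)⁻¹, hz g g.2 a a.2⟩
      one_smul := fun a => Subtype.ext (by change (1 : G) * a * (1 : G)⁻¹ = a; group)
      mul_smul := fun g h a => Subtype.ext (by
        change (g * h : G) * a * (g * h : G)⁻¹ = g * (h * a * (h : G)⁻¹) * (g : G)⁻¹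
        group) }
  have hP : IsPGroup r (zpowers x) := IsPGroup.of_card (n := 1) (by rw [Nat.card_zpowers, hx, pow_one])
  have h1 := hP.card_modEq_card_fixedPoints A
  refine h1.trans ?_
  have h2 : Nat.card (MulAction.fixedPoints (zpowers x) A) = Nat.card (A ⊓ centralizer ({x} : Set G) : Subgroup G) := by
    refine Nat.card_congr
      { toFun := fun a => ⟨(a : A), (a : A).2, ?_⟩
        invFun := fun a => ⟨⟨a, a.2.1⟩, ?_⟩
        left_inv := fun _ => rfl
        right_inv := fun _ => rfl }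
    · have h3 := a.2 ⟨x, mem_zpowers x⟩
      have h4 : x * ((a : A) : G) * x⁻¹ = (a : A) := congrArg Subtype.val h3
      rw [mul_inv_eq_iff_eq_mul] at h4
      exact mem_centralizer_singleton_iff.2 h4.symm
    · rintro ⟨_, i, rfl⟩
      have h3 : (a : G) * x = x * a := mem_centralizer_singleton_iff.1 a.2.2
      apply Subtype.ext
      change (x ^ i : G) * a * (x ^ i)⁻¹ = a
      rw [mul_inv_eq_iff_eq_mul]
      exact ((show Commute (a : G) x from h3).zpow_right i).symm.eq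
  rw [h2]

/-- **an element of prime order `r ≥ 7` with a nontrivial fixed point in a 5-group of order at most 125** -/
theorem comm_of_small {x : G} {r : ℕ} (hr : r.Prime) (hr7 : 7 ≤ r) (hx : orderOf x = r) {A : Subgroup G}
    (hA5 : IsPGroup 5 A) (hA : ∀ a ∈ A, x * a * x⁻¹ ∈ A) (hcard : Nat.card A ≤ 125) {c : G} (hcA : c ∈ A) (hc1 : c ≠ 1)
    (hcx : c * x = x * c) : ∀ a ∈ A, a * x = x * a := by
  have h5 : Fact (Nat.Prime 5) := ⟨Nat.prime_five⟩
  have h1 := card_modEq_of_inv hr hx A hA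
  set D : Subgroup G := A ⊓ centralizer ({x} : Set G) with hD
  have hDA : D ≤ A := inf_le_left
  obtain ⟨i, hi⟩ := IsPGroup.iff_card.1 hA5
  obtain ⟨j, hj⟩ := IsPGroup.iff_card.1 (hA5.to_le hDA)
  have hj1 : 1 ≤ j := by
    by_contra hcon
    have : j = 0 := by omega
    rw [this, pow_zero] at hj
    have h2 := (Nat.card_eq_one_iff_unique.1 hj).1
    have h3 : (⟨c, hcA, mem_centralizer_singleton_iff.2 hcx⟩ : D) = 1 := Subsingleton.elim _ _
    exact hc1 (congrArg Subtype.val h3)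
  have hji : j ≤ i := by
    have h2 := Nat.le_of_dvd Nat.card_pos (Subgroup.card_dvd_of_le hDA)
    rw [hi, hj] at h2
    exact (Nat.pow_le_pow_iff_right (by norm_num)).1 h2
  have hi3 : i ≤ 3 := by
    rw [hi] at hcard
    exact (Nat.pow_le_pow_iff_right (a := 5) (by norm_num)).1 (by simpa using hcard)
  have hij : i = j := by
    by_contra hne
    rw [hi, hj] at h1
    have h2 : r ∣ 5 ^ i - 5 ^ j := (Nat.modEq_iff_dvd' (Nat.pow_le_pow_right (by norm_num) hji)).1 h1.symm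
    have h3 : 5 ^ i - 5 ^ j ∣ 3000 := by
      have hi1 : 1 ≤ i := hj1.trans hji
      interval_cases i <;> interval_cases j <;> omega
    have h4 : r ∣ 3000 := h2.trans h3
    have h6 : r ∣ 2 ^ 3 * 3 * 5 ^ 3 := h4
    rcases (Nat.Prime.dvd_mul hr).1 h6 with h7 | h7
    · rcases (Nat.Prime.dvd_mul hr).1 h7 with h8 | h8
      · have := Nat.le_of_dvd (by norm_num) (hr.dvd_of_dvd_pow h8)
        omega
      · have := Nat.le_of_dvd (by norm_num) h8
        omega
    · have := Nat.le_of_dvd (by norm_num) (hr.dvd_of_dvd_pow h7)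
      omega
  have h2 : D = A := Subgroup.eq_of_le_of_card_ge hDA (by rw [hi, hj, hij])
  intro a ha
  rw [← h2] at ha
  exact mem_centralizer_singleton_iff.1 ha.2

end Cfsg.Agent.H582.Ly
end

-- part: H582/Ly/NFive
section
/-!
# Elements of order `5 r`, `r ≥ 7`, of the Lyons group (helper582)

* `Str` : the structure of `C(c)`, `c` of order 5 commuting with an element of order `r`;
* `adj_five` : **if elements `c`, `x` of orders 5 and `r ≥ 7` commute then `5 ∣ r - 1`, `125 ∤ |C(c)|` and `c` is not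
  contained in any of the extraspecial groups `K`**.
-/

set_option autoImplicit false
set_option linter.unusedSectionVars false

namespace Cfsg.Agent.H582.Ly

open Subgroup Cfsg Cfsg.Agent.TypeM.Two

universe u

theorem Fv.not_adj {G : Type*} [Group G] [Finite G] {t f : G} {K S : Subgroup G} (h : Fv t f K S) {x : G} {r : ℕ}
    (hr : r.Prime) (hr7 : 7 ≤ r) (hx : orderOf x = r) : f * x ≠ x * f := by
  intro hc
  have h1 : orderOf (⟨x, mem_centralizer_singleton_iff.2 hc.symm⟩ : centralizer ({f} : Set G)) ∣ 2250000 := by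
    rw [← h.card_cent]
    exact orderOf_dvd_natCard _
  rw [Subgroup.orderOf_mk, hx] at h1
  have h6 : r ∣ 2 ^ 4 * 3 ^ 2 * 5 ^ 6 := h1
  rcases (Nat.Prime.dvd_mul hr).1 h6 with h7 | h7
  · rcases (Nat.Prime.dvd_mul hr).1 h7 with h8 | h8
    · have := Nat.le_of_dvd (by norm_num) (hr.dvd_of_dvd_pow h8)
      omega
    · have := Nat.le_of_dvd (by norm_num) (hr.dvd_of_dvd_pow h8)
      omega
  · have := Nat.le_of_dvd (by norm_num) (hr.dvd_of_dvd_pow h7)
    omega

/-- The structure of the centralizer of `c`. -/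
structure Str {G : Type*} [Group G] (c x : G) (r : ℕ) (M A₁ A₂ : Subgroup G) : Prop where
  p₁ : IsPGroup 5 A₁
  le₁ : A₁ ≤ centralizer ({c} : Set G)
  max : ∀ A : Subgroup G, IsPGroup 5 A → A₁ ≤ A → A ≤ centralizer ({c} : Set G) → A ≤ A₁
  le₂ : A₂ ≤ A₁
  mem₂ : ∀ y ∈ A₂, y ∈ M
  inf : ∀ y ∈ A₁, y ∈ M → y ∈ A₂
  c₂ : c ∈ A₂
  com : ∀ A : Subgroup G, IsPGroup 5 A → A ≤ centralizer ({c} : Set G) → ∀ a ∈ A, ∀ b ∈ A, a * b * a⁻¹ * b⁻¹ ∈ M
  syl : ∀ y ∈ M, y ^ 5 = 1 → ∃ m : G, m * y * m⁻¹ ∈ A₂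
  inv : ∀ a ∈ A₂, x * a * x⁻¹ ∈ A₂
  idx : ∀ w ∈ A₁, ∀ f ∈ A₁, f ∉ M → ∃ i : ℕ, w * f ^ i ∈ M
  five : ∀ f ∈ A₁, f ∉ M → 5 ∣ r - 1
  index : 125 ∣ Nat.card (centralizer ({c} : Set G)) → 125 ≤ Nat.card A₁

theorem coprime_of_pow {Y : Type*} [Group Y] {y : Y} {n r : ℕ} (hr : r.Prime) (hr5 : r ≠ 5) (h : y ^ 5 ^ n = 1) :
    (orderOf y).Coprime r := by
  obtain ⟨m, -, hm⟩ := (Nat.dvd_prime_pow Nat.prime_five).1 (orderOf_dvd_of_pow_eq_one h)
  rw [hm]
  exact Nat.Coprime.pow_left m ((Nat.coprime_primes Nat.prime_five hr).2 hr5.symm)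

theorem exists_str {G : Type*} [Group G] [Finite G] {c x : G} {r : ℕ} (hr : r.Prime) (hr5 : r ≠ 5) (hr25 : ¬ 25 ∣ r - 1)
    (hr2 : ¬ r ^ 2 ∣ Nat.card G) (hc : orderOf c = 5) (hx : orderOf x = r) (hcx : c * x = x * c)
    (hs : Group.IsSolvable ↥(centralizer ({c} : Set G))) :
    ∃ M A₁ A₂ : Subgroup G, Str c x r M A₁ A₂ := by
  have hf : Fact r.Prime := ⟨hr⟩
  have h5 : Fact (Nat.Prime 5) := ⟨Nat.prime_five⟩
  set Y := centralizer ({c} : Set G) with hY
  have hYr : ¬ r ^ 2 ∣ Nat.card Y := fun h => hr2 (h.trans (Subgroup.card_subgroup_dvd_card Y))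
  obtain ⟨M, n, ψ, hMn, hMc, hψ, hker, hmax⟩ := exists_hom (Y := Y) hr hYr
  have hxY : x ∈ Y := mem_centralizer_singleton_iff.2 hcx.symm
  have hcY : c ∈ Y := mem_centralizer_singleton_iff.2 rfl
  have hMr : ¬ r ∣ Nat.card M := (Nat.Prime.coprime_iff_not_dvd hr).1 hMc.symm
  have hzp : IsPGroup r (zpowers (⟨x, hxY⟩ : Y)) :=
    IsPGroup.of_card (n := 1) (by rw [Nat.card_zpowers, Subgroup.orderOf_mk, hx, pow_one])
  obtain ⟨A₂, ⟨T, hT⟩, hinv⟩ := Lib.PGroupCoprimeAction.exists_invariant_sylow hzp hMr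
    (fun b _ u hu => hMn.conj_mem u hu b) 5
  have hA₂p : IsPGroup 5 A₂ := by rw [← hT]; exact T.2.map _
  have hA₂M : A₂ ≤ M := by rw [← hT]; exact map_subtype_le _
  obtain ⟨A₁, hA₁⟩ := hA₂p.exists_le_sylow
  have hinf : ∀ y ∈ A₁, y ∈ M → y ∈ A₂ := by
    have h1 : IsPGroup 5 ((A₁ : Subgroup Y) ⊓ M : Subgroup Y) := A₁.2.to_le inf_le_left
    have h2 : A₂ ≤ (A₁ : Subgroup Y) ⊓ M := le_inf hA₁ hA₂M
    have h3 : ((A₁ : Subgroup Y) ⊓ M).subgroupOf M = (T : Subgroup M) := by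
      refine T.3 (h1.comap_of_injective M.subtype M.subtype_injective) ?_
      intro u hu
      exact h2 (hT ▸ ⟨u, hu, rfl⟩)
    intro y hy hyM
    have h4 : (⟨y, hyM⟩ : M) ∈ ((A₁ : Subgroup Y) ⊓ M).subgroupOf M := ⟨hy, hyM⟩
    rw [h3] at h4
    rw [← hT]
    exact ⟨_, h4, rfl⟩
  -- `c` is central of order 5
  have hzn : (zpowers (⟨c, hcY⟩ : Y)).Normal := by
    refine ⟨fun u hu g => ?_⟩
    obtain ⟨i, rfl⟩ := hu
    have h1 : g * (⟨c, hcY⟩ : Y) = (⟨c, hcY⟩ : Y) * g := Subtype.ext (mem_centralizer_singleton_iff.1 g.2)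
    have h2 : g * (⟨c, hcY⟩ : Y) ^ i = (⟨c, hcY⟩ : Y) ^ i * g := ((show Commute g (⟨c, hcY⟩ : Y) from h1).zpow_right i).eq
    change g * (⟨c, hcY⟩ : Y) ^ i * g⁻¹ ∈ _
    rw [h2, mul_inv_cancel_right]
    exact ⟨i, rfl⟩
  have hzc : Nat.card (zpowers (⟨c, hcY⟩ : Y)) = 5 := by rw [Nat.card_zpowers, Subgroup.orderOf_mk, hc]
  have hcM : (⟨c, hcY⟩ : Y) ∈ M := hmax _ hzn (by rw [hzc]; exact (Nat.coprime_primes Nat.prime_five hr).2 hr5.symm)
    (mem_zpowers _)
  have hcA₁ : (⟨c, hcY⟩ : Y) ∈ A₁ := by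
    have h1 : IsPGroup 5 (zpowers (⟨c, hcY⟩ : Y)) := IsPGroup.of_card (n := 1) (by rw [hzc, pow_one])
    exact h1.le_sylow_of_normal A₁ (mem_zpowers _)
  -- elements of 5-subgroups in the kernel
  have hkey : ∀ y : Y, (∃ m : ℕ, y ^ 5 ^ m = 1) → ψ y = 1 → y ∈ M := by
    rintro y ⟨m, hm⟩ hy
    exact hker y hy (coprime_of_pow hr hr5 hm)
  have hn0 : Nat.card (ZMod n)ˣ ≠ 0 := by
    intro h0
    rw [h0] at hψ
    have := Nat.eq_zero_of_zero_dvd hψ
    have := hr.one_lt
    omega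
  have hfin : Finite (ZMod n)ˣ := Nat.finite_of_card_ne_zero hn0
  refine ⟨M.map Y.subtype, (A₁ : Subgroup Y).map Y.subtype, A₂.map Y.subtype, ?_, ?_, ?_, ?_, ?_, ?_, ?_, ?_, ?_, ?_,
    ?_, ?_, ?_⟩
  · exact A₁.2.map _
  · exact map_subtype_le _
  · intro A hA hle hAY
    have h1 : IsPGroup 5 (A.subgroupOf Y) := hA.comap_of_injective Y.subtype Y.subtype_injective
    have h2 : A.subgroupOf Y = (A₁ : Subgroup Y) := A₁.3 h1 fun u hu => hle ⟨u, hu, rfl⟩
    intro a ha
    have h3 : (⟨a, hAY ha⟩ : Y) ∈ A.subgroupOf Y := ha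
    rw [h2] at h3
    exact ⟨_, h3, rfl⟩
  · exact Subgroup.map_mono hA₁
  · rintro _ ⟨y, hy, rfl⟩
    exact ⟨y, hA₂M hy, rfl⟩
  · rintro _ ⟨y, hy, rfl⟩ ⟨z, hz, hzy⟩
    have : z = y := Subtype.ext hzy
    subst this
    exact ⟨z, hinf z hy hz, rfl⟩
  · exact ⟨_, hinf _ hcA₁ hcM, rfl⟩
  · intro A hA hAY a ha b hb
    have h1 : a * b * a⁻¹ * b⁻¹ ∈ A := mul_mem (mul_mem (mul_mem ha hb) (inv_mem ha)) (inv_mem hb)
    obtain ⟨m, hm⟩ := hA ⟨_, h1⟩
    refine ⟨⟨a, hAY ha⟩ * ⟨b, hAY hb⟩ * ⟨a, hAY ha⟩⁻¹ * ⟨b, hAY hb⟩⁻¹, hkey _ ⟨m, ?_⟩ ?_, rfl⟩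
    · have hm' : (a * b * a⁻¹ * b⁻¹) ^ 5 ^ m = 1 := congrArg Subtype.val hm
      exact Subtype.ext hm'
    · rw [map_mul, map_mul, map_mul, map_inv, map_inv, mul_comm (ψ ⟨a, hAY ha⟩) (ψ ⟨b, hAY hb⟩), mul_inv_cancel_right,
        mul_inv_cancel]
  · rintro _ ⟨y, hy, rfl⟩ hy5
    have hy5' : (⟨y, hy⟩ : M) ^ 5 = 1 := Subtype.ext (Subtype.ext hy5)
    have h1 : IsPGroup 5 (zpowers (⟨y, hy⟩ : M)) := by
      rw [IsPGroup.iff_card]
      obtain ⟨k, -, hk⟩ := (Nat.dvd_prime_pow Nat.prime_five).1 (orderOf_dvd_of_pow_eq_one (n := 5 ^ 1) (by rw [pow_one]; exact hy5'))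
      exact ⟨k, by rw [Nat.card_zpowers, hk]⟩
    obtain ⟨Q, hQ⟩ := h1.exists_le_sylow
    obtain ⟨m, hm⟩ := MulAction.exists_smul_eq M Q T
    refine ⟨((m : M) : Y), ?_⟩
    have h2 : m * ⟨y, hy⟩ * m⁻¹ ∈ T := by
      rw [← hm]
      exact ⟨⟨y, hy⟩, hQ (mem_zpowers _), rfl⟩
    refine ⟨((m : M) : Y) * y * ((m : M) : Y)⁻¹, ?_, rfl⟩
    rw [← hT]
    exact ⟨_, h2, rfl⟩
  · rintro _ ⟨a, ha, rfl⟩
    exact ⟨_, hinv _ (mem_zpowers _) a ha, rfl⟩
  · rintro _ ⟨w, hw, rfl⟩ _ ⟨f, hf', rfl⟩ hfM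
    have hfM' : f ∉ M := fun h => hfM ⟨f, h, rfl⟩
    obtain ⟨m, hm⟩ := A₁.2 ⟨f, hf'⟩
    have hψf : ψ f ≠ 1 := fun h => hfM' (hkey f ⟨m, congrArg Subtype.val hm⟩ h)
    set H : Subgroup (ZMod n)ˣ := (A₁ : Subgroup Y).map ψ with hH
    have hHp : IsPGroup 5 H := A₁.2.map _
    obtain ⟨k, hk⟩ := IsPGroup.iff_card.1 hHp
    have hk1 : k ≤ 1 := by
      by_contra hcon
      apply hr25
      calc 25 = 5 ^ 2 := by norm_num
        _ ∣ 5 ^ k := pow_dvd_pow 5 (by omega)
        _ = Nat.card H := hk.symm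
        _ ∣ Nat.card (ZMod n)ˣ := Subgroup.card_subgroup_dvd_card H
        _ ∣ r - 1 := hψ
    have hfH : ψ f ∈ H := ⟨f, hf', rfl⟩
    have hz : zpowers (ψ f) = H := by
      apply Subgroup.eq_of_le_of_card_ge
      · rwa [zpowers_le]
      · have h1 : Nat.card (zpowers (ψ f)) ∣ Nat.card H := Subgroup.card_dvd_of_le (by rwa [zpowers_le])
        rw [Nat.card_zpowers, hk] at h1
        have h2 : k = 1 := by
          by_contra h3
          have : k = 0 := by omega
          rw [this, pow_zero, Nat.dvd_one, orderOf_eq_one_iff] at h1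
          exact hψf h1
        rw [hk, h2, pow_one, Nat.card_zpowers]
        rw [h2, pow_one] at h1
        rcases (Nat.dvd_prime Nat.prime_five).1 h1 with h3 | h3
        · rw [orderOf_eq_one_iff] at h3
          exact absurd h3 hψf
        · rw [h3]
    have hwH : (ψ w)⁻¹ ∈ H := inv_mem ⟨w, hw, rfl⟩
    rw [← hz, mem_zpowers_iff_mem_range_orderOf] at hwH
    obtain ⟨i, -, hi⟩ := Finset.mem_image.1 hwH
    refine ⟨i, w * f ^ i, hkey _ ?_ ?_, rfl⟩
    · obtain ⟨m', hm'⟩ := A₁.2 ⟨w * f ^ i, mul_mem hw (pow_mem hf' i)⟩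
      exact ⟨m', congrArg Subtype.val hm'⟩
    · rw [map_mul, map_pow, hi, mul_inv_cancel]
  · rintro _ ⟨f, hf', rfl⟩ hfM
    have hfM' : f ∉ M := fun h => hfM ⟨f, h, rfl⟩
    obtain ⟨m, hm⟩ := A₁.2 ⟨f, hf'⟩
    have hm' : f ^ 5 ^ m = 1 := congrArg Subtype.val hm
    have hψf : ψ f ≠ 1 := fun h => hfM' (hkey f ⟨m, hm'⟩ h)
    have h1 : (ψ f) ^ 5 ^ m = 1 := by rw [← map_pow, hm', map_one]
    obtain ⟨k, -, hk⟩ := (Nat.dvd_prime_pow Nat.prime_five).1 (orderOf_dvd_of_pow_eq_one h1)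
    have hk0 : k ≠ 0 := by
      rintro rfl
      rw [pow_zero, orderOf_eq_one_iff] at hk
      exact hψf hk
    exact ((dvd_pow_self 5 hk0).trans (hk ▸ orderOf_dvd_natCard (ψ f))).trans hψ
  · intro h125
    have h1 : Nat.card ((A₁ : Subgroup Y).map Y.subtype) = Nat.card (A₁ : Subgroup Y) :=
      card_map_of_injective Y.subtype_injective
    rw [h1]
    have h2 : 5 ^ 3 ∣ Nat.card A₁ := A₁.pow_dvd_card_of_pow_dvd_card h125
    exact Nat.le_of_dvd Nat.card_pos h2

section main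

variable {G : Type u} [Group G] [Finite G]

theorem sq_not_dvd (hcard : Nat.card G = 51765179004000000) {r : ℕ} (hr : r.Prime) (hr7 : 7 ≤ r) : ¬ r ^ 2 ∣ Nat.card G := by
  rw [hcard]
  intro h
  have e : (51765179004000000 : ℕ) = 2 ^ 8 * 3 ^ 7 * 5 ^ 6 * (7 * 11 * 31 * 37 * 67) := by norm_num
  rw [e] at h
  have c1 : ∀ p : ℕ, p.Prime → p < 7 → ∀ k, (r ^ 2).Coprime (p ^ k) := fun p hp hlt k =>
    Nat.Coprime.pow 2 k ((Nat.coprime_primes hr hp).2 (by omega))
  have h1 : r ^ 2 ∣ 7 * 11 * 31 * 37 * 67 := by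
    refine Nat.Coprime.dvd_of_dvd_mul_left ?_ h
    exact (((c1 2 Nat.prime_two (by norm_num) 8).mul_right (c1 3 Nat.prime_three (by norm_num) 7)).mul_right
      (c1 5 Nat.prime_five (by norm_num) 6))
  have h2 : r ∣ 7 * 11 * 31 * 37 * 67 := (dvd_pow_self r (by norm_num)).trans h1
  have hcases : r = 7 ∨ r = 11 ∨ r = 31 ∨ r = 37 ∨ r = 67 := by
    have d := fun (p : ℕ) (hp : p.Prime) (h : r ∣ p) => (Nat.prime_dvd_prime_iff_eq hr hp).1 h
    rcases (Nat.Prime.dvd_mul hr).1 h2 with h3 | h3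
    · rcases (Nat.Prime.dvd_mul hr).1 h3 with h4 | h4
      · rcases (Nat.Prime.dvd_mul hr).1 h4 with h5 | h5
        · rcases (Nat.Prime.dvd_mul hr).1 h5 with h6 | h6
          · exact Or.inl (d 7 (by norm_num) h6)
          · exact Or.inr (Or.inl (d 11 (by norm_num) h6))
        · exact Or.inr (Or.inr (Or.inl (d 31 (by norm_num) h5)))
      · exact Or.inr (Or.inr (Or.inr (Or.inl (d 37 (by norm_num) h4))))
    · exact Or.inr (Or.inr (Or.inr (Or.inr (d 67 (by norm_num) h3))))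
  rcases hcases with rfl | rfl | rfl | rfl | rfl <;> revert h1 <;> norm_num

theorem prime_cases (hcard : Nat.card G = 51765179004000000) {r : ℕ} (hr : r.Prime) (hrG : r ∣ Nat.card G) :
    r = 2 ∨ r = 3 ∨ r = 5 ∨ r = 7 ∨ r = 11 ∨ r = 31 ∨ r = 37 ∨ r = 67 := by
  rw [hcard, show (51765179004000000 : ℕ) = 2 ^ 8 * 3 ^ 7 * 5 ^ 6 * 7 * 11 * 31 * 37 * 67 by norm_num] at hrG
  have d := fun (p : ℕ) (hp : p.Prime) (h : r ∣ p) => (Nat.prime_dvd_prime_iff_eq hr hp).1 h
  simp only [Nat.Prime.dvd_mul hr] at hrG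
  rcases hrG with ((((((h | h) | h) | h) | h) | h) | h) | h
  · exact Or.inl (d 2 (by norm_num) (hr.dvd_of_dvd_pow h))
  · exact Or.inr (Or.inl (d 3 (by norm_num) (hr.dvd_of_dvd_pow h)))
  · exact Or.inr (Or.inr (Or.inl (d 5 (by norm_num) (hr.dvd_of_dvd_pow h))))
  · exact Or.inr (Or.inr (Or.inr (Or.inl (d 7 (by norm_num) h))))
  · exact Or.inr (Or.inr (Or.inr (Or.inr (Or.inl (d 11 (by norm_num) h)))))
  · exact Or.inr (Or.inr (Or.inr (Or.inr (Or.inr (Or.inl (d 31 (by norm_num) h))))))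
  · exact Or.inr (Or.inr (Or.inr (Or.inr (Or.inr (Or.inr (Or.inl (d 37 (by norm_num) h)))))))
  · exact Or.inr (Or.inr (Or.inr (Or.inr (Or.inr (Or.inr (Or.inr (d 67 (by norm_num) h)))))))

/-- The analysis of one element. -/
theorem adj_aux (L : MT 11 G) (hcard : Nat.card G = 51765179004000000) {c x : G} {r : ℕ} (hr : r.Prime) (hr7 : 7 ≤ r)
    (hc : orderOf c = 5) (hx : orderOf x = r) (hcx : c * x = x * c) {M A₁ A₂ : Subgroup G} (s : Str c x r M A₁ A₂) :
    ∃ (t' f' : G) (K' S' : Subgroup G) (_ : Fv t' f' K' S'), f' ∈ A₁ ∧ f' ∉ M ∧ c ∉ K' ∧ Nat.card A₁ ≤ 125 ∧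
      (∀ a ∈ A₂, a * x = x * a) ∧ A₁ ≤ centralizer ({f'} : Set G) ∧ (∀ w ∈ K', w * c = c * w → w ∈ A₁) := by
  have h5 : Fact (Nat.Prime 5) := ⟨Nat.prime_five⟩
  obtain ⟨f, K, S, h⟩ := exists_fv L
  obtain ⟨t', f', K', S', h', P, hAP, hKP, hPf, hPc⟩ := h.exists_sylow hcard s.p₁
  have hc1 : c ≠ 1 := by
    rintro rfl
    rw [orderOf_one] at hc
    norm_num at hc
  have hcP : c ∈ (P : Subgroup G) := hAP (s.le₂ s.c₂)
  have hcf : c * f' = f' * c := mem_centralizer_singleton_iff.1 (hPf hcP)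
  -- the elements of `P` commuting with `c`
  have hPA : ∀ w ∈ (P : Subgroup G), w * c = c * w → w ∈ A₁ := by
    intro w hw hwc
    have h1 := s.max ((P : Subgroup G) ⊓ centralizer ({c} : Set G)) (P.2.to_le inf_le_left) (le_inf hAP s.le₁) inf_le_right
    exact h1 ⟨hw, mem_centralizer_singleton_iff.2 hwc⟩
  have hfA : f' ∈ A₁ := hPA f' (hKP h'.h.mem) hcf.symm
  have hAf : A₁ ≤ centralizer ({f'} : Set G) := hAP.trans hPf
  have hnadj : f' * x ≠ x * f' := h'.not_adj hr hr7 hx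
  -- `f' ∉ A₂`
  have hf2 : f' ∉ A₂ := by
    intro hf2
    set Z : Subgroup G := A₂ ⊓ centralizer (A₂ : Set G) with hZ
    have hZp : IsPGroup 5 Z := s.p₁.to_le (inf_le_left.trans s.le₂)
    have hZab : ∀ a ∈ Z, ∀ b ∈ Z, a * b = b * a := fun a ha b hb => ((mem_centralizer_iff.1 hb.2) a ha.1)
    have hZc := h'.card_abelian hZp ((inf_le_left.trans s.le₂).trans hAf) hZab
    have hmap : A₂.map (MulAut.conj x).toMonoidHom = A₂ := by
      apply Subgroup.eq_of_le_of_card_ge
      · rintro _ ⟨a, ha, rfl⟩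
        exact s.inv a ha
      · rw [card_map_of_injective (MulAut.conj x).injective]
    have hZinv : ∀ a ∈ Z, x * a * x⁻¹ ∈ Z := by
      rintro a ⟨ha, ha'⟩
      refine ⟨s.inv a ha, mem_centralizer_iff.2 ?_⟩
      intro b hb
      have hb' : b ∈ A₂ := hb
      rw [← hmap] at hb'
      obtain ⟨b', hb'', rfl⟩ := hb'
      have h1 := (mem_centralizer_iff.1 ha') b' hb''
      show (x * b' * x⁻¹) * (x * a * x⁻¹) = (x * a * x⁻¹) * (x * b' * x⁻¹)
      calc (x * b' * x⁻¹) * (x * a * x⁻¹) = x * (b' * a) * x⁻¹ := by group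
        _ = x * (a * b') * x⁻¹ := by rw [h1]
        _ = _ := by group
    have hcZ : c ∈ Z := ⟨s.c₂, mem_centralizer_iff.2 fun b hb => mem_centralizer_singleton_iff.1 (s.le₁ (s.le₂ hb))⟩
    have hfZ : f' ∈ Z := ⟨hf2, mem_centralizer_iff.2 fun b hb => mem_centralizer_singleton_iff.1 (hAf (s.le₂ hb))⟩
    exact hnadj (comm_of_small hr hr7 hx hZp hZinv hZc hcZ hc1 hcx f' hfZ)
  have hfM : f' ∉ M := fun h => hf2 (s.inf f' hfA h)
  have hcf' : c ∉ zpowers f' := by
    intro h1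
    have h2 : zpowers c = zpowers f' := by
      apply Subgroup.eq_of_le_of_card_ge
      · rwa [zpowers_le]
      · rw [Nat.card_zpowers, h'.h.f5, Nat.card_zpowers, hc]
    have h3 : f' ∈ zpowers c := by rw [h2]; exact mem_zpowers f'
    obtain ⟨i, rfl⟩ := h3
    apply hnadj
    exact ((show Commute c x from hcx).zpow_left i).eq
  -- `c ∉ K'`
  have hcK : c ∉ K' := by
    intro hcK
    obtain ⟨a, ha, b, hb, hac, hbc, hab⟩ := h'.exists_not_comm hcK hcf'
    have haA := hPA a (hKP ha) hac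
    have hbA := hPA b (hKP hb) hbc
    have h1 := s.com A₁ s.p₁ s.le₁ a haA b hbA
    have h2 := h'.h.comm_mem ha hb
    have h3 : a * b * a⁻¹ * b⁻¹ ∈ A₂ := s.inf _ (mul_mem (mul_mem (mul_mem haA hbA) (inv_mem haA)) (inv_mem hbA)) h1
    have h4 : a * b * a⁻¹ * b⁻¹ ≠ 1 := by
      intro h5
      rw [mul_inv_eq_one, mul_inv_eq_iff_eq_mul] at h5
      exact hab h5
    have ho : orderOf (a * b * a⁻¹ * b⁻¹) = 5 := by
      apply orderOf_eq_prime _ h4
      exact h'.pow_five _ (h'.h.F_le h2)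
    have h5' : zpowers (a * b * a⁻¹ * b⁻¹) = zpowers f' := by
      apply Subgroup.eq_of_le_of_card_ge
      · rwa [zpowers_le]
      · rw [Nat.card_zpowers, h'.h.f5, Nat.card_zpowers, ho]
    have h6 : f' ∈ zpowers (a * b * a⁻¹ * b⁻¹) := by rw [h5']; exact mem_zpowers f'
    exact hf2 ((zpowers_le.2 h3) h6)
  -- orders
  have hA1c : Nat.card A₁ ≤ 125 := by
    have h1 := h'.card_le_inf s.p₁ hAf
    have h2 : (A₁ ⊓ K' : Subgroup G) ≤ K' ⊓ centralizer ({c} : Set G) := fun a ha => ⟨ha.2, s.le₁ ha.1⟩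
    have h3 : Nat.card (A₁ ⊓ K' : Subgroup G) ≤ Nat.card (K' ⊓ centralizer ({c} : Set G) : Subgroup G) :=
      Nat.card_mono (Set.toFinite _) h2
    have h4 := h'.card_le hcf (n := 1) (by rw [pow_one, ← hc, pow_orderOf_eq_one]) hcK
    omega
  have hA2c : Nat.card A₂ ≤ 125 := (Nat.card_mono (Set.toFinite _) s.le₂).trans hA1c
  exact ⟨t', f', K', S', h', hfA, hfM, hcK, hA1c,
    comm_of_small hr hr7 hx (s.p₁.to_le s.le₂) s.inv hA2c s.c₂ hc1 hcx, hAf, fun w hw hwc => hPA w (hKP hw) hwc⟩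

/-- The properties of an element of order 5 commuting with an element of order `r ≥ 7`. -/
theorem adj_five (FT : ∀ (K : Type u) [Group K] [Finite K], Odd (Nat.card K) → Group.IsSolvable K) (L : MT 11 G)
    (hcard : Nat.card G = 51765179004000000) {c x : G} {r : ℕ} (hr : r.Prime) (hr7 : 7 ≤ r) (hc : orderOf c = 5)
    (hx : orderOf x = r) (hcx : c * x = x * c) :
    5 ∣ r - 1 ∧ ¬ 125 ∣ Nat.card (centralizer ({c} : Set G)) ∧
      ∀ (t f : G) (K S : Subgroup G), Fv t f K S → c ∉ K := by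
  have h5 : Fact (Nat.Prime 5) := ⟨Nat.prime_five⟩
  have hr5 : r ≠ 5 := by omega
  have hrG : r ∣ Nat.card G := hx ▸ orderOf_dvd_natCard x
  have hr25 : ¬ 25 ∣ r - 1 := by
    rcases prime_cases hcard hr hrG with rfl | rfl | rfl | rfl | rfl | rfl | rfl | rfl <;> decide
  have hr2 := sq_not_dvd hcard hr hr7
  -- the structure for every adjacent element
  have hstr : ∀ c : G, orderOf c = 5 → c * x = x * c → ∃ M A₁ A₂ : Subgroup G, Str c x r M A₁ A₂ := by
    intro c hc hcx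
    refine exists_str hr hr5 hr25 hr2 hc hx hcx ?_
    rcases solvable_or FT L hc with h | ⟨t, K, S, h⟩
    · exact h
    · exact absurd hcx (h.not_adj hr hr7 hx)
  -- `c` is not contained in `K`
  have hK : ∀ c : G, orderOf c = 5 → c * x = x * c → ∀ (t f : G) (K S : Subgroup G), Fv t f K S → c ∉ K := by
    intro c hc hcx t f K S h hcK
    obtain ⟨M, A₁, A₂, s⟩ := hstr c hc hcx
    obtain ⟨t', f', K', S', h', -, -, -, -, hA2, -⟩ := adj_aux L hcard hr hr7 hc hx hcx s
    have hcf : c ∉ zpowers f := by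
      intro h1
      have h2 : zpowers c = zpowers f := by
        apply Subgroup.eq_of_le_of_card_ge
        · rwa [zpowers_le]
        · rw [Nat.card_zpowers, h.h.f5, Nat.card_zpowers, hc]
      have h3 : f ∈ zpowers c := by rw [h2]; exact mem_zpowers f
      obtain ⟨i, rfl⟩ := h3
      apply h.not_adj hr hr7 hx
      exact ((show Commute c x from hcx).zpow_left i).eq
    obtain ⟨a, ha, b, hb, hac, hbc, hab⟩ := h.exists_not_comm hcK hcf
    have h1 := s.com (K ⊓ centralizer ({c} : Set G)) (h.isPGroup_K.to_le inf_le_left) inf_le_right a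
      ⟨ha, mem_centralizer_singleton_iff.2 hac⟩ b ⟨hb, mem_centralizer_singleton_iff.2 hbc⟩
    have h2 := h.h.comm_mem ha hb
    have h4 : a * b * a⁻¹ * b⁻¹ ≠ 1 := by
      intro h5
      rw [mul_inv_eq_one, mul_inv_eq_iff_eq_mul] at h5
      exact hab h5
    have h5' := h.pow_five _ (h.h.F_le h2)
    obtain ⟨m, hm⟩ := s.syl _ h1 h5'
    have ho : orderOf (a * b * a⁻¹ * b⁻¹) = 5 := orderOf_eq_prime h5' h4
    have h6 : zpowers (a * b * a⁻¹ * b⁻¹) = zpowers f := by
      apply Subgroup.eq_of_le_of_card_ge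
      · rwa [zpowers_le]
      · rw [Nat.card_zpowers, h.h.f5, Nat.card_zpowers, ho]
    have h7 : f ∈ zpowers (a * b * a⁻¹ * b⁻¹) := by rw [h6]; exact mem_zpowers f
    obtain ⟨i, hi⟩ := h7
    have h8 : m * f * m⁻¹ ∈ A₂ := by
      have e : m * f * m⁻¹ = (m * (a * b * a⁻¹ * b⁻¹) * m⁻¹) ^ i := by
        rw [conj_zpow]
        exact congrArg (fun y => m * y * m⁻¹) hi.symm
      rw [e]
      exact zpow_mem hm i
    exact (h.conj m).not_adj hr hr7 hx (hA2 _ h8)
  obtain ⟨M, A₁, A₂, s⟩ := hstr c hc hcx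
  obtain ⟨t', f', K', S', h', hfA, hfM, hcK', hA1c, hA2, hAf, hKA⟩ := adj_aux L hcard hr hr7 hc hx hcx s
  refine ⟨s.five f' hfA hfM, ?_, hK c hc hcx⟩
  intro h125
  have h1 := s.index h125
  have h2 := h'.card_le_inf s.p₁ hAf
  -- an element of `C_{K'}(c) ∖ ⟨f'⟩`
  have h3 : ¬ (A₁ ⊓ K' : Subgroup G) ≤ zpowers f' := by
    intro h3
    have h4 : Nat.card (A₁ ⊓ K' : Subgroup G) ≤ Nat.card (zpowers f') := Nat.card_mono (Set.toFinite _) h3
    rw [h'.h.card_F] at h4
    omega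
  obtain ⟨w, ⟨hwA, hwK⟩, hwf⟩ := Set.not_subset.1 h3
  obtain ⟨i, hi⟩ := s.idx w hwA f' hfA hfM
  have h4 : w * f' ^ i ∈ A₂ := s.inf _ (mul_mem hwA (pow_mem hfA i)) hi
  have h5' : w * f' ^ i ∈ K' := mul_mem hwK (pow_mem h'.h.mem i)
  refine hK (w * f' ^ i) (orderOf_eq_prime (h'.pow_five _ h5') ?_) (hA2 _ h4) _ _ _ _ h' h5'
  intro h6
  apply hwf
  have h7 : w = (f' ^ i)⁻¹ := eq_inv_of_mul_eq_one_left h6
  rw [h7]
  exact inv_mem (pow_mem (mem_zpowers f') i)

end main

end Cfsg.Agent.H582.Ly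
end

-- part: H582/Ly/Three
section
/-!
# Elements of order three of the Lyons group (helper582)

* `TData x₀` : `C(x₀) = 3.McL`; `exists_tdata`;
* `fact_a` : every element of order 3 commutes with an involution;
* `exists_four` : an element of order 3 not conjugate to `x₀` commutes with two commuting involutions.
-/

set_option autoImplicit false
set_option linter.unusedSectionVars false

namespace Cfsg.Agent.H582.Ly

open Subgroup Equiv Cfsg Cfsg.Agent.TypeM.Two Cfsg.Agent.SporRec.TwoAn Cfsg.Agent.SignalizersComponents.Components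
open Cfsg.Agent.CpAutLy

universe u v

/-- the center under an isomorphism -/
theorem map_center' {C D : Type*} [Group C] [Group D] (e : C ≃* D) : (center C).map e = center D := by
  ext x
  constructor
  · rintro ⟨y, hy, rfl⟩
    rw [mem_center_iff]
    intro g
    obtain ⟨g', rfl⟩ := e.surjective g
    have := (mem_center_iff.mp hy) g'
    simpa using congrArg e this
  · intro hx
    refine ⟨e.symm x, ?_, by simp⟩
    rw [SetLike.mem_coe, mem_center_iff]
    intro g
    have := (mem_center_iff.mp hx) (e g)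
    simpa using congrArg e.symm this

/-- `3.McL` -/
structure IsTMcL (C : Type*) [Group C] : Prop where
  quasi : IsQuasisimple C
  zcard : Nat.card (center C) = 3
  quot : Spor.IsoMcL (C ⧸ center C)

theorem IsTMcL.congr {C D : Type*} [Group C] [Group D] (e : C ≃* D) (h : IsTMcL C) : IsTMcL D := by
  refine ⟨isQuasisimple_of_mulEquiv e h.quasi, ?_, ?_⟩
  · rw [← h.zcard]
    exact (Nat.card_congr (Subgroup.centerCongr e).toEquiv).symm
  · obtain ⟨e'⟩ := h.quot
    exact ⟨(QuotientGroup.congr (center C) (center D) e (map_center' e)).symm.trans e'⟩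

theorem IsTMcL.card {C : Type*} [Group C] (h : IsTMcL C) : Nat.card C = 2694384000 := by
  have h1 := (center C).card_mul_index
  rw [h.zcard, Subgroup.index, McLType.ThreeElts.card_of_iso h.quot] at h1
  rw [← h1]

theorem IsTMcL.finite {C : Type*} [Group C] (h : IsTMcL C) : Finite C :=
  Nat.finite_of_card_ne_zero (by rw [h.card]; norm_num)

/-- every element of order 3 of `3.McL` commutes with an involution -/
theorem IsTMcL.inv {C : Type*} [Group C] (h : IsTMcL C) {y : C} (hy : orderOf y = 3) :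
    ∃ s : C, orderOf s = 2 ∧ s * y = y * s := by
  have hfin := h.finite
  have h2' : Fact (Nat.Prime 2) := ⟨Nat.prime_two⟩
  -- an involution over an involution
  have hlift : ∀ v : C ⧸ center C, orderOf v = 2 → ∃ s : C, orderOf s = 2 ∧ (QuotientGroup.mk s : C ⧸ center C) = v := by
    intro v hv
    obtain ⟨g, rfl⟩ := QuotientGroup.mk_surjective v
    have h1 : (QuotientGroup.mk (g ^ 2) : C ⧸ center C) = 1 := by
      rw [QuotientGroup.mk_pow, ← hv, pow_orderOf_eq_one]
    have h2 : g ^ 2 ∈ center C := (QuotientGroup.eq_one_iff _).1 h1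
    have h3 : (g ^ 2) ^ 3 = 1 := by
      have h4 := pow_card_eq_one' (G := center C) (x := ⟨g ^ 2, h2⟩)
      rw [h.zcard] at h4
      exact congrArg Subtype.val h4
    have h5 : (QuotientGroup.mk (g ^ 3) : C ⧸ center C) = QuotientGroup.mk g := by
      rw [pow_succ, QuotientGroup.mk_mul, h1, one_mul]
    refine ⟨g ^ 3, orderOf_eq_prime ?_ ?_, h5⟩
    · rw [← pow_mul, mul_comm, pow_mul, h3]
    · intro h6
      rw [h6] at h5
      rw [← h5] at hv
      change orderOf (1 : C ⧸ center C) = 2 at hv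
      rw [orderOf_one] at hv
      norm_num at hv
  by_cases hyc : y ∈ center C
  · have h2 : 2 ∣ Nat.card C := by rw [h.card]; norm_num
    obtain ⟨s, hs⟩ := exists_prime_orderOf_dvd_card' 2 h2
    exact ⟨s, hs, mem_center_iff.1 hyc s⟩
  obtain ⟨v, hv, hvy⟩ := McLType.ThreeElts.exists_commuting_involution_of_iso h.quot (QuotientGroup.mk y)
    (Row.orderOf_mk Nat.prime_three hy hyc)
  obtain ⟨s, hs, rfl⟩ := hlift v hv
  refine ⟨s, hs, ?_⟩
  -- `s y s⁻¹ = y z`
  have h1 : y⁻¹ * (s * y * s⁻¹) ∈ center C := by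
    rw [← QuotientGroup.eq_one_iff]
    change ((QuotientGroup.mk y)⁻¹ * (QuotientGroup.mk s * QuotientGroup.mk y * (QuotientGroup.mk s)⁻¹) :
      C ⧸ center C) = 1
    rw [hvy]
    group
  set z := y⁻¹ * (s * y * s⁻¹) with hz
  have e1 : s * y * s⁻¹ = y * z := by rw [hz]; group
  have hz3 : z ^ 3 = 1 := by
    have h4 := pow_card_eq_one' (G := center C) (x := ⟨z, h1⟩)
    rw [h.zcard] at h4
    exact congrArg Subtype.val h4
  have hss : s * s = 1 := by rw [← pow_two, ← hs, pow_orderOf_eq_one]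
  have hsi : s⁻¹ = s := inv_eq_of_mul_eq_one_left hss
  have hzs : s * z * s⁻¹ = z := by rw [mem_center_iff.1 h1 s, mul_inv_cancel_right]
  have e2 : y = y * z * z := by
    calc y = s * (s * y * s⁻¹) * s⁻¹ := by
          rw [hsi]
          calc y = (s * s) * y * (s * s) := by rw [hss]; group
            _ = s * (s * y * s) * s := by group
      _ = s * (y * z) * s⁻¹ := by rw [e1]
      _ = (s * y * s⁻¹) * (s * z * s⁻¹) := by group
      _ = y * z * z := by rw [e1, hzs]
  have hz1 : z = 1 := by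
    have e3 : z * z = 1 := by
      have e4 : y * (z * z) = y * 1 := by rw [mul_one, ← mul_assoc]; exact e2.symm
      exact mul_left_cancel e4
    calc z = z ^ 3 * (z * z)⁻¹ := by group
      _ = 1 := by rw [hz3, e3]; group
  rw [hz1, mul_one, mul_inv_eq_iff_eq_mul] at e1
  exact e1

/-- The elements with centralizer `3.McL`. -/
structure TData {G : Type*} [Group G] (x₀ : G) : Prop where
  ord : orderOf x₀ = 3
  nn : ∃ s : G, orderOf s = 2 ∧ s * x₀ = x₀ * s ∧ Types.nn x₀ s = 120960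
  mcl : IsTMcL ↥(centralizer ({x₀} : Set G))

/-- the centralizers under an isomorphism -/
def centCongr {G : Type*} {H : Type*} [Group G] [Group H] (e : G ≃* H) (x : G) :
    ↥(centralizer ({x} : Set G)) ≃* ↥(centralizer ({e x} : Set H)) where
  toFun v := ⟨e v, mem_centralizer_singleton_iff.2 (by
    rw [← map_mul, mem_centralizer_singleton_iff.1 v.2, map_mul])⟩
  invFun v := ⟨e.symm v, mem_centralizer_singleton_iff.2 (by
    apply e.injective
    rw [map_mul, map_mul, e.apply_symm_apply]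
    exact mem_centralizer_singleton_iff.1 v.2)⟩
  left_inv v := Subtype.ext (e.symm_apply_apply _)
  right_inv v := Subtype.ext (e.apply_symm_apply _)
  map_mul' v w := Subtype.ext (map_mul e _ _)

theorem nn_map {G : Type*} {H : Type*} [Group G] [Group H] (e : G ≃* H) (x t : G) :
    Types.nn (e x) (e t) = Types.nn x t := by
  symm
  refine Nat.card_congr
    { toFun := fun v => ⟨e v, mem_centralizer_singleton_iff.2 ?_, mem_centralizer_singleton_iff.2 ?_⟩
      invFun := fun v => ⟨e.symm v, mem_centralizer_singleton_iff.2 ?_, mem_centralizer_singleton_iff.2 ?_⟩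
      left_inv := fun v => Subtype.ext (e.symm_apply_apply _)
      right_inv := fun v => Subtype.ext (e.apply_symm_apply _) }
  · rw [← map_mul, mem_centralizer_singleton_iff.1 v.2.1, map_mul]
  · rw [← map_mul, mem_centralizer_singleton_iff.1 v.2.2, map_mul]
  · apply e.injective
    rw [map_mul, map_mul, e.apply_symm_apply]
    exact mem_centralizer_singleton_iff.1 v.2.1
  · apply e.injective
    rw [map_mul, map_mul, e.apply_symm_apply]
    exact mem_centralizer_singleton_iff.1 v.2.2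

theorem TData.map {G : Type*} {H : Type*} [Group G] [Group H] (e : G ≃* H) {x₀ : G} (h : TData x₀) : TData (e x₀) where
  ord := by rw [MulEquiv.orderOf_eq, h.ord]
  nn := by
    obtain ⟨s, h1, h2, h3⟩ := h.nn
    refine ⟨e s, by rw [MulEquiv.orderOf_eq, h1], by rw [← map_mul, h2, map_mul], ?_⟩
    rw [nn_map, h3]
  mcl := h.mcl.congr (centCongr e x₀)

theorem TData.conj {G : Type*} [Group G] {x₀ : G} (h : TData x₀) (g : G) : TData (g * x₀ * g⁻¹) :=
  h.map (MulAut.conj g)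

theorem exists_tdata_ly : ∃ x₀ : Cfsg.Spor.Ly, TData x₀ := by
  obtain ⟨x₀, h⟩ := Base.exists_three
  refine ⟨x₀, h.ord, Row.exists_base_nn h, ?_, h.zcard, h.quot⟩
  obtain ⟨-, hs, -, -⟩ := TypeM.FactsMcL.facts h.quot
  exact ⟨(Group.isPerfect_def (G := ↥(centralizer ({x₀} : Set Cfsg.Spor.Ly)))).2 h.perfect, hs⟩

theorem exists_tdata {G : Type*} [Group G] (h : Spor.IsoLy G) : ∃ x₀ : G, TData x₀ := by
  obtain ⟨e⟩ := h
  obtain ⟨x₀, h⟩ := exists_tdata_ly
  exact ⟨_, h.map e.symm⟩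

section

variable {G : Type*} [Group G] [Finite G]

/-- a `q`-subgroup is conjugate into a subgroup of index prime to `q` -/
theorem exists_conj_le {q : ℕ} (hq : q.Prime) {H A : Subgroup G} (hA : IsPGroup q A) (hH : ¬ q ∣ H.index) :
    ∃ g : G, ∀ a ∈ A, g * a * g⁻¹ ∈ H := by
  have hf : Fact q.Prime := ⟨hq⟩
  obtain ⟨y, hy⟩ := hA.nonempty_fixed_point_of_prime_not_dvd_card (G ⧸ H) (by rwa [← Subgroup.index])
  obtain ⟨g, rfl⟩ := QuotientGroup.mk_surjective y
  refine ⟨g⁻¹, fun a ha => ?_⟩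
  have h1 : ((a * g : G) : G ⧸ H) = (g : G ⧸ H) := hy ⟨a, ha⟩
  have h2 := (QuotientGroup.eq.1 h1.symm)
  rw [inv_inv, mul_assoc]
  exact h2

theorem isPGroup_zpowers' {q : ℕ} (hq : q.Prime) {x : G} (hx : orderOf x = q) : IsPGroup q (zpowers x) :=
  IsPGroup.of_card (n := 1) (by rw [Nat.card_zpowers, hx, pow_one])

theorem not_dvd_index {H : Subgroup G} {q k a b : ℕ} (hcard : Nat.card G = q ^ k * a) (hH : Nat.card H = q ^ k * b)
    (hq : q.Prime) (ha : ¬ q ∣ a) : ¬ q ∣ H.index := by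
  intro h
  have h1 := H.card_mul_index
  rw [hH, hcard, mul_assoc] at h1
  have h2 := Nat.eq_of_mul_eq_mul_left (pow_pos hq.pos k) h1
  exact ha (h2 ▸ h.mul_left b)

/-- **every element of order 3 commutes with an involution** -/
theorem fact_a (hcard : Nat.card G = 51765179004000000) {x₀ : G} (h₀ : TData x₀) {y : G} (hy : orderOf y = 3) :
    ∃ s : G, orderOf s = 2 ∧ s * y = y * s := by
  have hidx : ¬ 3 ∣ (centralizer ({x₀} : Set G)).index :=
    not_dvd_index (k := 7) (a := 23669492000000) (b := 1232000) (by rw [hcard]; norm_num) (by rw [h₀.mcl.card]; norm_num)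
      Nat.prime_three (by norm_num)
  obtain ⟨g, hg⟩ := exists_conj_le Nat.prime_three (isPGroup_zpowers' Nat.prime_three hy) hidx
  have h1 := hg y (mem_zpowers y)
  obtain ⟨s, hs, hsy⟩ := h₀.mcl.inv (y := ⟨g * y * g⁻¹, h1⟩) (by
    rw [Subgroup.orderOf_mk]
    exact (MulEquiv.orderOf_eq (MulAut.conj g) y).trans hy)
  refine ⟨g⁻¹ * s * g, ?_, ?_⟩
  · have h2 : orderOf ((MulAut.conj g⁻¹) (s : G)) = 2 := by
      rw [MulEquiv.orderOf_eq, Subgroup.orderOf_coe, hs]
    rw [MulAut.conj_apply, inv_inv] at h2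
    exact h2
  · have h2 : (s : G) * (g * y * g⁻¹) = g * y * g⁻¹ * s := congrArg Subtype.val hsy
    calc g⁻¹ * s * g * y = g⁻¹ * (s * (g * y * g⁻¹)) * g := by group
      _ = g⁻¹ * (g * y * g⁻¹ * s) * g := by rw [h2]
      _ = y * (g⁻¹ * s * g) := by group

/-- the permutation `(0 3)(1 4)(2 5)(9 10)` -/
def tau : Perm (Fin 11) := swap (0 : Fin 11) 3 * swap (1 : Fin 11) 4 * swap (2 : Fin 11) 5 * swap (9 : Fin 11) 10
def th2 : Perm (Fin 11) := swap (0 : Fin 11) 1 * swap (1 : Fin 11) 2 * (swap (3 : Fin 11) 4 * swap (4 : Fin 11) 5)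
def th3 : Perm (Fin 11) := swap (0 : Fin 11) 1 * swap (1 : Fin 11) 2 * (swap (3 : Fin 11) 4 * swap (4 : Fin 11) 5) * (swap (6 : Fin 11) 7 * swap (7 : Fin 11) 8)

theorem tau_sq : tau * tau = 1 := by decide +kernel
theorem tau_card : tau.support.card = 8 := by decide +kernel
theorem tau_two : tau * th2 = th2 * tau := by decide +kernel
theorem tau_three : tau * th3 = th3 * tau := by decide +kernel
theorem type_two : th2.cycleType = {3, 3} := by decide +kernel
theorem type_three : th3.cycleType = {3, 3, 3} := by decide +kernel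
theorem tau_mem : tau ∈ alternatingGroup (Fin 11) := by
  rw [Perm.mem_alternatingGroup]
  decide +kernel

/-- **an element of order 3 not conjugate to `x₀` commutes with two commuting involutions** -/
theorem exists_four (L : MT 11 G) (hcard : Nat.card G = 51765179004000000) {x₀ : G} (h₀ : TData x₀) {y : G}
    (hy : orderOf y = 3) (hne : ¬ ∃ g : G, g * y * g⁻¹ = x₀) :
    ∃ s w : G, orderOf s = 2 ∧ orderOf w = 2 ∧ orderOf (s * w) = 2 ∧ s * y = y * s ∧ w * y = y * w ∧ w * s = s * w := by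
  obtain ⟨s, hs, hsy⟩ := fact_a hcard h₀ hy
  obtain ⟨hss, hs1⟩ := MT.sq_of_orderOf hs
  obtain ⟨L', hL'⟩ := L.exists_rebase hss hs1
  obtain ⟨s₀, h1, h2, h3⟩ := h₀.nn
  have hty : L'.t * y = y * L'.t := by rw [hL']; exact hsy
  set Y : ↥(centralizer ({L'.t} : Set G)) := TypeM.McLFromLy.xc hty with hY
  have hY3 : Y ^ 3 = 1 := TypeM.McLFromLy.xc_cube hy hty
  have key : ∃ τ : Perm (Fin 11), τ * τ = 1 ∧ τ.support.card = 8 ∧ τ ∈ alternatingGroup (Fin 11) ∧
      τ * L'.K.π Y = L'.K.π Y * τ := by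
    have hconj : ∀ σ : Perm (Fin 11), tau * σ = σ * tau → (L'.K.π Y).cycleType = σ.cycleType →
        ∃ τ : Perm (Fin 11), τ * τ = 1 ∧ τ.support.card = 8 ∧ τ ∈ alternatingGroup (Fin 11) ∧
          τ * L'.K.π Y = L'.K.π Y * τ := by
      intro σ hσ hct
      obtain ⟨ρ, hρ⟩ := isConj_iff.1 (Perm.isConj_iff_cycleType_eq.2 hct.symm)
      refine ⟨ρ * tau * ρ⁻¹, ?_, ?_, ?_, ?_⟩
      · calc ρ * tau * ρ⁻¹ * (ρ * tau * ρ⁻¹) = ρ * (tau * tau) * ρ⁻¹ := by group
          _ = 1 := by rw [tau_sq]; group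
      · rw [← Perm.sum_cycleType, Perm.cycleType_conj, Perm.sum_cycleType, tau_card]
      · exact (alternatingGroup.normal).conj_mem _ tau_mem ρ
      · rw [← hρ]
        calc ρ * tau * ρ⁻¹ * (ρ * σ * ρ⁻¹) = ρ * (tau * σ) * ρ⁻¹ := by group
          _ = ρ * (σ * tau) * ρ⁻¹ := by rw [hσ]
          _ = _ := by group
    rcases Types.cases L' hy hty with h | h | h
    · exfalso
      apply hne
      exact Types.exists_conj_of_nn L' hy L'.orderOf_t hty h.2 h₀.ord h1 h2 h3
    · exact hconj th2 tau_two (by rw [type_two]; exact h.1)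
    · exact hconj th3 tau_three (by rw [type_three]; exact h.1)
  obtain ⟨τ, ht1, ht2, ht3, ht4⟩ := key
  obtain ⟨w, hw⟩ := L'.K.exists_lift ht3
  have hww : w * w = 1 := L'.K.sq_eq_one_iff.2 ⟨by rw [hw, ht1], by rw [hw, ht2]⟩
  have hwY : Y * w = w * Y := L'.K.commute_of_odd (n := 3) (by decide) hY3 (by rw [hw]; exact ht4.symm)
  have hτ1 : τ ≠ 1 := by
    rintro rfl
    rw [Perm.support_one, Finset.card_empty] at ht2
    norm_num at ht2
  have hw1 : w ≠ 1 := by
    rintro rfl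
    rw [map_one] at hw
    exact hτ1 hw.symm
  have hwz : w ≠ L'.K.z := by
    rintro rfl
    rw [L'.K.π_z] at hw
    exact hτ1 hw.symm
  have hwt : (w : G) * L'.t = L'.t * w := L'.mem_iff.1 w.2
  have hwwG : (w : G) * w = 1 := congrArg Subtype.val hww
  have hw1G : (w : G) ≠ 1 := fun h => hw1 (Subtype.ext h)
  refine ⟨L'.t, w, L'.orderOf_t, ?_, ?_, hty, ?_, hwt⟩
  · have : Fact (Nat.Prime 2) := ⟨Nat.prime_two⟩
    exact orderOf_eq_prime (by rw [pow_two, hwwG]) hw1G
  · have : Fact (Nat.Prime 2) := ⟨Nat.prime_two⟩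
    apply orderOf_eq_prime
    · calc (L'.t * (w : G)) ^ 2 = L'.t * ((w : G) * L'.t) * w := by rw [pow_two]; group
        _ = (L'.t * L'.t) * (w * w) := by rw [hwt]; group
        _ = 1 := by rw [L'.t_mul_t, hwwG, one_mul]
    · intro h
      apply hwz
      apply Subtype.ext
      rw [L'.hz]
      have h4 : (w : G) = L'.t⁻¹ := (inv_eq_of_mul_eq_one_right h).symm
      rw [h4, L'.t_inv]
  · exact (congrArg Subtype.val hwY).symm

end

end Cfsg.Agent.H582.Ly
end
end

-- part: H868/Dl/LyFive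
section
set_option linter.all false
open scoped Cfsg.Agent.FastGrp

/-!
# The centralizer of an element of order 25 of the Lyons group (helper868, task DL-SPOR-3)

In the 5-local data `Fv t f K S` (`C(f) = K S`, `K` extraspecial of order `5 ^ 5` and exponent 5, `S = 2.A_6`):

* `Fv.pow_five_of_comm` : if `k s` commutes with an element of `K` outside `⟨f⟩`, then `(k s) ^ 5 = 1`;
* `Fv.card_cent25` : **`|C(x)| ≤ 25` for `x ∈ C(f)` of order 25**.
-/

set_option autoImplicit false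
set_option linter.unusedSectionVars false

namespace Cfsg.Agent.H868.Dl.LyFive

open Subgroup Cfsg Cfsg.Agent.H582.Ly Cfsg.Agent.SporRec.LyFiveExtra

variable {G : Type*} [Group G] [Finite G] {t f : G} {K S : Subgroup G}

section fv

variable (h : Fv t f K S)

include h

/-- The elements of `K` which commute with `y ∈ C_K(s) ∖ ⟨f⟩` are products `[a, s] z`, `a ∈ K`, `z ∈ ⟨f⟩`. -/
theorem exists_comm {s y k : G} (hs : s ∈ S) (ho : orderOf s = 5) (hy : y ∈ K) (hyf : y ∉ zpowers f)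
    (hsy : s * y = y * s) (hk : k ∈ K) (hky : k * y = y * k) :
    ∃ a ∈ K, ∃ z ∈ zpowers f, k = a * s * a⁻¹ * s⁻¹ * z := by
  set D : Subgroup G := K ⊓ centralizer ({s} : Set G) with hD
  set E : Subgroup G := K ⊓ centralizer ({y} : Set G) with hE
  have hDc : Nat.card D ≤ 25 := h.card_le_S hs ho
  have hEc : Nat.card E ≤ 625 := h.card_cent_le hy hyf
  have hDK : D ≤ K := inf_le_left
  have hFK := h.h.F_le
  -- commutators with `s` commute with `y`
  have hmem : ∀ a ∈ K, ∀ z ∈ zpowers f, a * s * a⁻¹ * s⁻¹ * z ∈ E := by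
    intro a ha z hz
    refine ⟨?_, ?_⟩
    · have h1 := h.h.S_norm hs (inv_mem ha)
      have h2 : a * s * a⁻¹ * s⁻¹ * z = a * (s * a⁻¹ * s⁻¹) * z := by group
      rw [h2]
      exact mul_mem (mul_mem ha h1) (hFK hz)
    · refine mem_centralizer_singleton_iff.2 ?_
      have hz1 : z * y = y * z := (h.h.comm_F hy hz).symm
      have h1 : a * s * a⁻¹ * s⁻¹ * y = y * (a * s * a⁻¹ * s⁻¹) := by
        obtain ⟨c, hc, hce⟩ : ∃ c ∈ zpowers f, a * y * a⁻¹ = c * y :=
          ⟨a * y * a⁻¹ * y⁻¹, h.h.comm_mem ha hy, by group⟩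
        have hcs : s * c = c * s := h.h.S_comm_F hs hc
        have hya : a⁻¹ * y = a⁻¹ * (c⁻¹ * (a * y * a⁻¹)) := by rw [hce]; group
        have hca : a⁻¹ * c⁻¹ = c⁻¹ * a⁻¹ := h.h.comm_F (inv_mem ha) (inv_mem hc)
        have hy2 : a⁻¹ * y = c⁻¹ * y * a⁻¹ := by
          rw [hya, ← mul_assoc, hca]
          group
        have hys : s⁻¹ * y = y * s⁻¹ := by
          rw [inv_mul_eq_iff_eq_mul, ← mul_assoc, hsy, mul_inv_cancel_right]
        have hay : a * (c⁻¹ * y) = y * a := by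
          have e1 : a * c⁻¹ = c⁻¹ * a := h.h.comm_F ha (inv_mem hc)
          have e2 : a * y = c * y * a := by rw [← hce]; group
          rw [← mul_assoc, e1, mul_assoc, e2]
          group
        have hcs' : s * (c⁻¹ * y) = c⁻¹ * y * s := by
          have e1 : s * c⁻¹ = c⁻¹ * s := h.h.S_comm_F hs (inv_mem hc)
          rw [← mul_assoc, e1, mul_assoc, hsy]
          group
        calc a * s * a⁻¹ * s⁻¹ * y = a * s * a⁻¹ * (s⁻¹ * y) := by group
          _ = a * s * (a⁻¹ * y) * s⁻¹ := by rw [hys]; group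
          _ = a * (s * (c⁻¹ * y)) * a⁻¹ * s⁻¹ := by rw [hy2]; group
          _ = a * (c⁻¹ * y) * s * a⁻¹ * s⁻¹ := by rw [hcs']; group
          _ = y * (a * s * a⁻¹ * s⁻¹) := by rw [hay]; group
      rw [mul_assoc, hz1, ← mul_assoc, h1]
      group
  -- the counting map
  let ι : (K ⧸ D.subgroupOf K) × zpowers f → E := fun p =>
    ⟨((p.1.out : K) : G) * s * ((p.1.out : K) : G)⁻¹ * s⁻¹ * (p.2 : G), hmem _ (p.1.out).2 _ p.2.2⟩
  have hinj : Function.Injective ι := by
    rintro ⟨q, z⟩ ⟨q', z'⟩ hqq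
    have h1 : ((q.out : K) : G) * s * ((q.out : K) : G)⁻¹ * s⁻¹ * (z : G) =
        ((q'.out : K) : G) * s * ((q'.out : K) : G)⁻¹ * s⁻¹ * (z' : G) := congrArg Subtype.val hqq
    obtain ⟨a, ha⟩ : ∃ a : K, a = q.out := ⟨_, rfl⟩
    obtain ⟨b, hb⟩ : ∃ b : K, b = q'.out := ⟨_, rfl⟩
    rw [← ha, ← hb] at h1
    have hcK : (b : G)⁻¹ * (a : G) ∈ K := mul_mem (inv_mem b.2) a.2
    have hzK : ∀ {w : G}, w ∈ K → w * ((z' : G) * (z : G)⁻¹) = (z' : G) * (z : G)⁻¹ * w := fun hw =>
      h.h.comm_F hw (mul_mem z'.2 (inv_mem z.2))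
    have h2 : s * ((b : G)⁻¹ * a) * s⁻¹ * ((b : G)⁻¹ * a)⁻¹ ∈ zpowers f := by
      have e1 : (b : G)⁻¹ * a = (s * (b : G)⁻¹ * s⁻¹) * ((z' : G) * (z : G)⁻¹) * (s * a * s⁻¹) := by
        calc (b : G)⁻¹ * a = (b : G)⁻¹ * ((a : G) * s * (a : G)⁻¹ * s⁻¹ * z) * (z : G)⁻¹ * (s * a * s⁻¹) := by group
          _ = (b : G)⁻¹ * ((b : G) * s * (b : G)⁻¹ * s⁻¹ * z') * (z : G)⁻¹ * (s * a * s⁻¹) := by rw [h1]
          _ = _ := by group
      have e2 : (b : G)⁻¹ * a = ((z' : G) * (z : G)⁻¹) * (s * ((b : G)⁻¹ * a) * s⁻¹) := by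
        calc (b : G)⁻¹ * a = (s * (b : G)⁻¹ * s⁻¹) * ((z' : G) * (z : G)⁻¹) * (s * a * s⁻¹) := e1
          _ = ((z' : G) * (z : G)⁻¹) * (s * (b : G)⁻¹ * s⁻¹) * (s * a * s⁻¹) := by
              rw [hzK (h.h.S_norm hs (inv_mem b.2))]
          _ = _ := by group
      have e3 : s * ((b : G)⁻¹ * a) * s⁻¹ * ((b : G)⁻¹ * a)⁻¹ = ((z' : G) * (z : G)⁻¹)⁻¹ := by
        have e4 : s * ((b : G)⁻¹ * a) * s⁻¹ = ((z' : G) * (z : G)⁻¹)⁻¹ * ((b : G)⁻¹ * a) := by
          rw [eq_inv_mul_iff_mul_eq]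
          exact e2.symm
        rw [e4, mul_inv_cancel_right]
      rw [e3]
      exact inv_mem (mul_mem z'.2 (inv_mem z.2))
    have h3 := h.comm_of_mem hs hcK h2
    have h4 : q = q' := by
      rw [← QuotientGroup.out_eq' q, ← QuotientGroup.out_eq' q', ← ha, ← hb, eq_comm, QuotientGroup.eq,
        mem_subgroupOf]
      exact ⟨hcK, mem_centralizer_singleton_iff.2 h3.symm⟩
    have h5 : a = b := by rw [ha, hb, h4]
    have h6 : (z : G) = z' := by
      rw [h5] at h1
      exact mul_left_cancel h1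
    rw [h4, Subtype.ext h6]
  have hcard : Nat.card E ≤ Nat.card ((K ⧸ D.subgroupOf K) × zpowers f) := by
    rw [Nat.card_prod, h.h.card_F]
    have h1 := Subgroup.card_eq_card_quotient_mul_card_subgroup (D.subgroupOf K)
    rw [Nat.card_congr (subgroupOfEquivOfLe hDK).toEquiv, h.h.card] at h1
    have h2 : 5 ^ 5 ≤ Nat.card (K ⧸ D.subgroupOf K) * 25 := by
      rw [h1]
      exact Nat.mul_le_mul_left _ hDc
    omega
  obtain ⟨p, hp⟩ := (hinj.bijective_of_nat_card_le hcard).2 ⟨k, hk, mem_centralizer_singleton_iff.2 hky⟩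
  exact ⟨_, (p.1.out).2, _, p.2.2, (congrArg Subtype.val hp).symm⟩

/-- If `k s` commutes with an element of `K` outside `⟨f⟩`, then `(k s) ^ 5 = 1`. -/
theorem pow_five_of_comm {k s y : G} (hk : k ∈ K) (hs : s ∈ S) (hs5 : s ^ 5 = 1) (hy : y ∈ K) (hyf : y ∉ zpowers f)
    (hc : k * s * y = y * (k * s)) : (k * s) ^ 5 = 1 := by
  by_cases hs1 : s = 1
  · rw [hs1, mul_one]
    exact h.pow_five k hk
  have : Fact (Nat.Prime 5) := ⟨Nat.prime_five⟩
  have ho : orderOf s = 5 := orderOf_eq_prime hs5 hs1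
  have hsy := h.comm_of_comm hk hs hy hc
  have hky : k * y = y * k := by
    apply mul_right_cancel (b := s)
    rw [mul_assoc k y s, ← hsy, ← mul_assoc, hc, mul_assoc]
  obtain ⟨a, ha, z, hz, rfl⟩ := exists_comm h hs ho hy hyf hsy hk hky
  have hzs : s * z = z * s := h.h.S_comm_F hs hz
  have hza : a * z = z * a := h.h.comm_F ha hz
  have e1 : a * s * a⁻¹ * s⁻¹ * z * s = a * s * a⁻¹ * z := by
    rw [mul_assoc _ z s, ← hzs]
    group
  have hcomm : Commute (a * s * a⁻¹) z := by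
    have c1 : Commute a z := hza
    have c2 : Commute s z := hzs
    exact (c1.mul_left c2).mul_left c1.inv_left
  have hz5 : z ^ 5 = 1 := h.pow_five z (h.h.F_le hz)
  rw [e1, hcomm.mul_pow, hz5, mul_one, conj_pow, hs5, mul_one, mul_inv_cancel]

/-- `C_K(x) ≤ ⟨f⟩` for `x` of order 25. -/
theorem mem_of_comm25 {x y : G} (hxf : x * f = f * x) (hx : orderOf x = 25) (hy : y ∈ K) (hc : x * y = y * x) :
    y ∈ zpowers f := by
  by_contra hyf
  obtain ⟨k, hk, s, hs, rfl, hs5⟩ := h.exists_fac hxf (n := 2) (by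
    rw [show (5 : ℕ) ^ 2 = 25 by norm_num, ← hx, pow_orderOf_eq_one])
  have h1 := pow_five_of_comm h hk hs hs5 hy hyf hc
  have h2 := orderOf_dvd_of_pow_eq_one h1
  rw [hx] at h2
  exact absurd h2 (by norm_num)

/-- `f ∈ ⟨x⟩`. -/
theorem f_mem {x : G} (hxf : x * f = f * x) (hx : orderOf x = 25) : f ∈ zpowers x := by
  obtain ⟨k, hk, s, hs, he, hs5⟩ := h.exists_fac hxf (n := 2) (by
    rw [show (5 : ℕ) ^ 2 = 25 by norm_num, ← hx, pow_orderOf_eq_one])
  obtain ⟨k', hk', he'⟩ := h.h.mem_K_pow hk hs 5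
  have h1 : x ^ 5 ∈ K := by
    rw [he, he', hs5, mul_one]
    exact hk'
  have h2 : x ^ 5 ∈ zpowers f := mem_of_comm25 h hxf hx h1 (by rw [← pow_succ', ← pow_succ])
  have h3 : x ^ 5 ≠ 1 := by
    intro h3
    have h4 := orderOf_dvd_of_pow_eq_one h3
    rw [hx] at h4
    exact absurd h4 (by norm_num)
  have : Fact (Nat.Prime 5) := ⟨Nat.prime_five⟩
  have h5 : f ∈ zpowers (x ^ 5) := by
    have h6 := zpowers_eq_top_of_prime_card (G := zpowers f) (p := 5) (by rw [h.h.card_F])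
      (g := ⟨x ^ 5, h2⟩) (fun h7 => h3 (congrArg Subtype.val h7))
    have h7 : (⟨f, mem_zpowers f⟩ : zpowers f) ∈ zpowers (⟨x ^ 5, h2⟩ : zpowers f) := by rw [h6]; exact mem_top _
    obtain ⟨n, hn⟩ := mem_zpowers_iff.1 h7
    exact mem_zpowers_iff.2 ⟨n, congrArg Subtype.val hn⟩
  exact (zpowers_le.2 (pow_mem (mem_zpowers x) 5)) h5

theorem cent_le {x : G} (hxf : x * f = f * x) (hx : orderOf x = 25) :
    centralizer ({x} : Set G) ≤ centralizer ({f} : Set G) := by
  intro y hy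
  obtain ⟨n, hn⟩ := mem_zpowers_iff.1 (f_mem h hxf hx)
  rw [mem_centralizer_singleton_iff] at hy ⊢
  rw [← hn]
  exact ((show Commute y x from hy).zpow_right n).eq

/-- no element of order 3 commutes with an element of order 25 -/
theorem no_three {x y : G} (hxf : x * f = f * x) (hx : orderOf x = 25) (hy : orderOf y = 3) (hc : y * x = x * y) :
    False := by
  have hyf : y * f = f * y :=
    mem_centralizer_singleton_iff.1 (cent_le h hxf hx (mem_centralizer_singleton_iff.2 hc))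
  obtain ⟨k, hk, s, hs, rfl, hs5⟩ := h.exists_fac hxf (n := 2) (by
    rw [show (5 : ℕ) ^ 2 = 25 by norm_num, ← hx, pow_orderOf_eq_one])
  obtain ⟨k', hk', r, hr, rfl⟩ := h.h.fac y hyf
  obtain ⟨k'', hk'', he⟩ := h.h.mem_K_pow hk' hr 3
  rw [← hy, pow_orderOf_eq_one, hy] at he
  have hr3 : r ^ 3 = 1 := by
    refine h.h.eq_one_of_mem ?_ (pow_mem hr 3)
    have : r ^ 3 = k''⁻¹ := (inv_eq_of_mul_eq_one_right he.symm).symm
    rw [this]
    exact inv_mem hk''
  have hr1 : r ≠ 1 := by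
    rintro rfl
    rw [mul_one] at hy
    have h1 := orderOf_dvd_of_pow_eq_one (h.pow_five k' hk')
    rw [hy] at h1
    exact absurd h1 (by norm_num)
  have hsr : s * r = r * s := by
    have h1 : s * r * (r * s)⁻¹ = 1 := by
      refine h.h.eq_one_of_mem ?_ (mul_mem (mul_mem hs hr) (inv_mem (mul_mem hr hs)))
      have e1 : k' * r * (k * s) = k * s * (k' * r) := hc
      have e2 : s * r * (r * s)⁻¹ = (s * k' * s⁻¹)⁻¹ * k⁻¹ * k' * (r * k * r⁻¹) := by
        have e3 : k * (s * k' * s⁻¹) * (s * r) = k' * (r * k * r⁻¹) * (r * s) := by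
          calc k * (s * k' * s⁻¹) * (s * r) = k * s * (k' * r) := by group
            _ = k' * r * (k * s) := e1.symm
            _ = k' * (r * k * r⁻¹) * (r * s) := by group
        have e4 : s * r = (k * (s * k' * s⁻¹))⁻¹ * (k' * (r * k * r⁻¹) * (r * s)) := by
          rw [← e3]; group
        rw [e4]
        group
      rw [e2]
      exact mul_mem (mul_mem (mul_mem (inv_mem (h.h.S_norm hs hk')) (inv_mem hk)) hk') (h.h.S_norm hr hk)
    rwa [mul_inv_eq_one] at h1
  have h1 := h.five_three s hs r hr hs5 hr3 hr1 hsr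
  rw [h1, mul_one] at hx
  have h2 := orderOf_dvd_of_pow_eq_one (h.pow_five k hk)
  rw [hx] at h2
  exact absurd h2 (by norm_num)

/-- an involution of `C(f)` is conjugate to `t` under `K` -/
theorem exists_conj_t {y : G} (hyf : y * f = f * y) (hy : orderOf y = 2) : ∃ n ∈ K, y = n * t * n⁻¹ := by
  obtain ⟨k', hk', r, hr, rfl⟩ := h.h.fac y hyf
  obtain ⟨k'', hk'', he⟩ := h.h.mem_K_pow hk' hr 2
  have hy2 : (k' * r) ^ 2 = 1 := by rw [← hy, pow_orderOf_eq_one]
  rw [hy2] at he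
  have hr2 : r ^ 2 = 1 := by
    refine h.h.eq_one_of_mem ?_ (pow_mem hr 2)
    have : r ^ 2 = k''⁻¹ := (inv_eq_of_mul_eq_one_right he.symm).symm
    rw [this]
    exact inv_mem hk''
  have hrt : r = t := by
    rcases h.uinv r hr (by rw [← pow_two]; exact hr2) with h1 | h1
    · exfalso
      rw [h1, mul_one] at hy
      have h2 := orderOf_dvd_of_pow_eq_one (h.pow_five k' hk')
      rw [hy] at h2
      exact absurd h2 (by norm_num)
    · exact h1
  subst hrt
  obtain ⟨m, hm, z, hz, hinv, rfl⟩ := h.exists_inverted hk'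
  have htz : r * z = z * r := h.h.S_comm_F hr hz
  have hmz : m * z = z * m := h.h.comm_F hm hz
  have hrr : r * r = 1 := h.h.tt
  have hri : r⁻¹ = r := h.h.tinv
  have hz2 : z ^ 2 = 1 := by
    have e1 : (m * z * r) ^ 2 = z ^ 2 := by
      rw [hri] at hinv
      calc (m * z * r) ^ 2 = m * z * r * (m * z * r) := pow_two _
        _ = z * (m * (r * m * r) * z) := by
            have e2 : m * z * r * (m * z * r) = (m * z) * r * m * (z * r) := by group
            rw [e2, ← htz, hmz]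
            group
        _ = z ^ 2 := by rw [hinv, mul_inv_cancel, one_mul, pow_two]
    rw [← e1]
    exact hy2
  have hz1 : z = 1 := by
    have h5 := h.pow_five z (h.h.F_le hz)
    calc z = z ^ 5 * (z ^ 2)⁻¹ * (z ^ 2)⁻¹ := by group
      _ = 1 := by rw [h5, hz2]; simp
  rw [hz1, mul_one]
  have hm5 := h.pow_five m hm
  refine ⟨m ^ 3, pow_mem hm 3, ?_⟩
  have e3 : r * (m ^ 3)⁻¹ = m ^ 3 * r := by
    have e4 : r * (m ^ 3)⁻¹ * r⁻¹ = ((r * m * r⁻¹)⁻¹) ^ 3 := by
      rw [← inv_pow, conj_inv, conj_pow]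
    rw [hinv, inv_inv] at e4
    rw [mul_inv_eq_iff_eq_mul] at e4
    exact e4
  rw [mul_assoc, e3, ← mul_assoc, ← pow_add]
  have e5 : m ^ (3 + 3) = m := by rw [show 3 + 3 = 5 + 1 from rfl, pow_succ, hm5, one_mul]
  rw [e5]

/-- no involution commutes with an element of order 25 -/
theorem no_two {x y : G} (hxf : x * f = f * x) (hx : orderOf x = 25) (hy : orderOf y = 2) (hc : y * x = x * y) :
    False := by
  have hyf : y * f = f * y :=
    mem_centralizer_singleton_iff.1 (cent_le h hxf hx (mem_centralizer_singleton_iff.2 hc))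
  obtain ⟨n, hn, rfl⟩ := exists_conj_t h hyf hy
  obtain ⟨k, hk, s, hs, rfl, hs5⟩ := h.exists_fac hxf (n := 2) (by
    rw [show (5 : ℕ) ^ 2 = 25 by norm_num, ← hx, pow_orderOf_eq_one])
  have hst : s * t = t * s := h.h.six.comm s hs
  set k₁ := n⁻¹ * k * (s * n * s⁻¹) with hk₁
  have hk₁K : k₁ ∈ K := mul_mem (mul_mem (inv_mem hn) hk) (h.h.S_norm hs hn)
  have e1 : n⁻¹ * (k * s) * n = k₁ * s := by rw [hk₁]; group
  have e2 : t * (k₁ * s) = k₁ * s * t := by
    rw [← e1]
    calc t * (n⁻¹ * (k * s) * n) = n⁻¹ * ((n * t * n⁻¹) * (k * s)) * n := by group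
      _ = n⁻¹ * ((k * s) * (n * t * n⁻¹)) * n := by rw [hc]
      _ = _ := by group
  have e3 : k₁ * t = t * k₁ := by
    apply mul_right_cancel (b := s)
    calc k₁ * t * s = k₁ * (t * s) := mul_assoc _ _ _
      _ = k₁ * (s * t) := by rw [hst]
      _ = k₁ * s * t := (mul_assoc _ _ _).symm
      _ = t * (k₁ * s) := e2.symm
      _ = t * k₁ * s := (mul_assoc _ _ _).symm
  have e4 : k₁ ∈ zpowers f := h.h.ct k₁ hk₁K e3
  have e5 : (k₁ * s) ^ 5 = 1 := by
    rw [(show Commute k₁ s from (h.h.S_comm_F hs e4).symm).mul_pow, h.pow_five k₁ hk₁K, hs5, one_mul]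
  have e6 : (k * s) ^ 5 = 1 := by
    have e7 : k * s = n * (k₁ * s) * n⁻¹ := by rw [← e1]; group
    rw [e7, conj_pow, e5]
    group
  have e8 := orderOf_dvd_of_pow_eq_one e6
  rw [hx] at e8
  exact absurd e8 (by norm_num)

/-- **the centralizer of an element of order 25** -/
theorem card_cent25 {x : G} (hxf : x * f = f * x) (hx : orderOf x = 25) :
    Nat.card (centralizer ({x} : Set G)) ≤ 25 := by
  have : Fact (Nat.Prime 5) := ⟨Nat.prime_five⟩
  have hle := cent_le h hxf hx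
  have hp : IsPGroup 5 ↥(centralizer ({x} : Set G)) := by
    rw [IsPGroup.iff_card]
    have hd : Nat.card (centralizer ({x} : Set G)) ∣ 2 ^ 4 * 3 ^ 2 * 5 ^ 6 := by
      rw [show 2 ^ 4 * 3 ^ 2 * 5 ^ 6 = 2250000 by norm_num, ← h.card_cent]
      exact Subgroup.card_dvd_of_le hle
    have h2 : ¬ 2 ∣ Nat.card (centralizer ({x} : Set G)) := by
      intro h2
      obtain ⟨y, hy⟩ := exists_prime_orderOf_dvd_card' (G := centralizer ({x} : Set G)) 2 h2
      exact no_two h hxf hx (y := (y : G)) (by rw [Subgroup.orderOf_coe, hy])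
        (mem_centralizer_singleton_iff.1 y.2)
    have h3 : ¬ 3 ∣ Nat.card (centralizer ({x} : Set G)) := by
      intro h3
      have : Fact (Nat.Prime 3) := ⟨Nat.prime_three⟩
      obtain ⟨y, hy⟩ := exists_prime_orderOf_dvd_card' (G := centralizer ({x} : Set G)) 3 h3
      exact no_three h hxf hx (y := (y : G)) (by rw [Subgroup.orderOf_coe, hy])
        (mem_centralizer_singleton_iff.1 y.2)
    have c2 : (Nat.card (centralizer ({x} : Set G))).Coprime (2 ^ 4 * 3 ^ 2) := by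
      refine Nat.Coprime.mul_right ?_ ?_
      · exact Nat.Coprime.pow_right 4 ((Nat.Prime.coprime_iff_not_dvd Nat.prime_two).2 h2).symm
      · exact Nat.Coprime.pow_right 2 ((Nat.Prime.coprime_iff_not_dvd Nat.prime_three).2 h3).symm
    have h4 := c2.dvd_of_dvd_mul_left hd
    obtain ⟨m, -, hm⟩ := (Nat.dvd_prime_pow Nat.prime_five).1 h4
    exact ⟨m, hm⟩
  have h1 := h.card_le_inf hp hle
  have h2 : centralizer ({x} : Set G) ⊓ K ≤ zpowers f := fun y hy =>
    mem_of_comm25 h hxf hx hy.2 (mem_centralizer_singleton_iff.1 hy.1).symm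
  have h3 : Nat.card (centralizer ({x} : Set G) ⊓ K : Subgroup G) ≤ Nat.card (zpowers f) :=
    Nat.card_mono (Set.toFinite _) h2
  rw [h.h.card_F] at h3
  omega

end fv

end Cfsg.Agent.H868.Dl.LyFive
end
end
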